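import Cfsg.Agent.Mrg.Omega.NOne.SU.OutBasic
import Mathlib
import Cfsg.Agent.Mrg.RankTwoClose.Braid
import Cfsg.Agent.Mrg.Omega.BTwo.Conj
import Cfsg.Agent.Mrg.RankTwoClose.UFive.LStab
import Cfsg.Agent.Mrg.Omega.NOne.SU.HermCo
import Cfsg.Agent.Mrg.Omega.Close.Base

-- merged: Cfsg.Agent.Mrg.RankTwoClose.XSide.Mat
section

section


/-!
# The group `X = ⟨Q, Q'⟩` (type beta): the action on `V` and on `O/V`

`VAct x A` : `x ∈ X` acts on `V` (hermitian matrices) as `H ↦ A H A^*`; `OAct x A` : it acts on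
`O/V = C_Q(V)V/V × C_{Q'}(V)V/V = Φ × Φ` as the matrix `A`.  Every `x ∈ X` has a matrix `A` of determinant
one with both properties; so `C_X(V) = C_X(O/V) ∩ ...` acts trivially on `O/V`.
-/

set_option autoImplicit false
set_option linter.unusedSectionVars false

open Subgroup

namespace Cfsg.Agent.RankTwoClose.XSide

open Cfsg.Agent.Omega.NOne.SU

variable {G : Type*} [Group G] {k F : Type*} [Field k] [Field F] [Algebra k F]

/-- the hermitian matrix of `v a b d` -/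
def mu (T : Quad k F) (a : k) (b : F) (d : k) : Matrix (Fin 2) (Fin 2) F :=
  !![algebraMap k F a, b; T.sg b, algebraMap k F d]

/-- the adjoint -/
def st (T : Quad k F) (A : Matrix (Fin 2) (Fin 2) F) : Matrix (Fin 2) (Fin 2) F :=
  (A.map T.sg).transpose

theorem st_mul (T : Quad k F) (A B : Matrix (Fin 2) (Fin 2) F) : st T (A * B) = st T B * st T A := by
  unfold st
  rw [← Matrix.transpose_mul]
  congr 1
  exact Matrix.map_mul (f := (T.sg : F →+* F))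

/-- `x` acts on `V` as `H ↦ A H A^*` -/
def VAct (T : Quad k F) (v : k → F → k → G) (x : G) (A : Matrix (Fin 2) (Fin 2) F) : Prop :=
  ∀ a b d, ∃ a' b' d', x * v a b d * x⁻¹ = v a' b' d' ∧ mu T a' b' d' = A * mu T a b d * st T A

theorem VAct.mul {T : Quad k F} {v : k → F → k → G} {x y : G} {A B : Matrix (Fin 2) (Fin 2) F}
    (hx : VAct T v x A) (hy : VAct T v y B) : VAct T v (x * y) (A * B) := by
  intro a b d
  obtain ⟨a', b', d', e1, e2⟩ := hy a b d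
  obtain ⟨a'', b'', d'', e3, e4⟩ := hx a' b' d'
  refine ⟨a'', b'', d'', ?_, ?_⟩
  · rw [← e3, ← e1]; group
  · rw [e4, e2, st_mul]
    simp only [Matrix.mul_assoc]

theorem VAct.one {T : Quad k F} {v : k → F → k → G} : VAct T v 1 1 := by
  intro a b d
  refine ⟨a, b, d, by group, ?_⟩
  have : st T (1 : Matrix (Fin 2) (Fin 2) F) = 1 := by
    unfold st
    rw [Matrix.map_one _ (map_zero _) (map_one _), Matrix.transpose_one]
  rw [this, Matrix.one_mul, Matrix.mul_one]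

section gin

variable {T : Quad k F} {S : Sylow 2 G} {V R Q Q' : Subgroup G} {v : k → F → k → G} {p p' : G → F}
  (I : GIn T S V R Q Q' v p p')
include I

theorem VAct_Q {y : G} (hy : y ∈ Q) : VAct T v y !![1, p y; 0, 1] := by
  intro a b d
  refine ⟨_, _, _, I.act y hy a b d, ?_⟩
  unfold mu st
  ext i j
  fin_cases i <;> fin_cases j
  · simp [Matrix.mul_apply, Fin.sum_univ_two, T.tr_eq, T.nm_eq, T.sg_sg]
    ring
  · simp [Matrix.mul_apply, Fin.sum_univ_two]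
  · simp [Matrix.mul_apply, Fin.sum_univ_two]
    ring
  · simp [Matrix.mul_apply, Fin.sum_univ_two]

theorem VAct_Q' {y : G} (hy : y ∈ Q') : VAct T v y !![1, 0; p' y, 1] := by
  intro a b d
  refine ⟨_, _, _, I.act' y hy a b d, ?_⟩
  unfold mu st
  ext i j
  fin_cases i <;> fin_cases j
  · simp [Matrix.mul_apply, Fin.sum_univ_two]
  · simp [Matrix.mul_apply, Fin.sum_univ_two]
    ring
  · simp [Matrix.mul_apply, Fin.sum_univ_two, T.sg_sg]
    ring
  · simp [Matrix.mul_apply, Fin.sum_univ_two, T.tr_eq, T.nm_eq]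
    ring

theorem norm_V_of_VAct {x : G} {A : Matrix (Fin 2) (Fin 2) F} (h : VAct T v x A) {z : G} (hz : z ∈ V) :
    x * z * x⁻¹ ∈ V := by
  obtain ⟨a, b, d, rfl⟩ := I.v_surj z hz
  obtain ⟨a', b', d', e, -⟩ := h a b d
  rw [e]
  exact I.v_mem _ _ _

/-- an element of determinant one which is trivial on `V` has the matrix `1` -/
theorem VAct.eq_one {x : G} {A : Matrix (Fin 2) (Fin 2) F} (h : VAct T v x A) (hd : A.det = 1)
    (hx : x ∈ centralizer (V : Set G)) : A = 1 := by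
  have hc : ∀ a b d, mu T a b d = A * mu T a b d * st T A := by
    intro a b d
    obtain ⟨a', b', d', e1, e2⟩ := h a b d
    have h1 : x * v a b d * x⁻¹ = v a b d := by
      rw [← mem_centralizer_iff.1 hx _ (I.v_mem a b d)]; group
    rw [h1] at e1
    obtain ⟨rfl, rfl, rfl⟩ := I.v_eq e1
    exact e2
  rw [Matrix.det_fin_two] at hd
  have h1 := hc 1 0 0
  have h2 := hc 0 0 1
  have h3 := hc 0 1 0
  unfold mu st at h1 h2 h3
  have e1 := congrFun (congrFun h1 1) 1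
  have e2 := congrFun (congrFun h2 0) 0
  have e3 := congrFun (congrFun h1 0) 0
  have e4 := congrFun (congrFun h3 0) 1
  simp [Matrix.mul_apply, Fin.sum_univ_two] at e1 e2 e3 e4
  -- `A 1 0 = 0`, `A 0 1 = 0`
  rw [e1, e2] at hd
  rw [e2, zero_mul, zero_add] at e4
  simp only [mul_zero, sub_zero] at hd
  -- `A 0 0 = A 1 1`
  have hA0 : A 0 0 ≠ 0 := by
    intro h0
    rw [h0, zero_mul] at hd
    exact zero_ne_one hd
  have h4 : T.sg (A 1 1) = A 1 1 := by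
    apply mul_left_cancel₀ hA0
    rw [hd, ← e4]
  have h5 : T.sg (A 0 0) = A 1 1 := by
    apply mul_left_cancel₀ hA0
    rw [hd, ← e3]
  have h6 : A 0 0 = A 1 1 := by
    have := congrArg T.sg h5
    rw [T.sg_sg, h4] at this
    exact this
  have h7 : A 0 0 = 1 := by
    have h8 : (A 0 0 + 1) * (A 0 0 + 1) = 0 := by
      have h9 : A 0 0 * A 0 0 = 1 := by
        conv_lhs => rw [h6]
        rw [← hd, ← h6]
      calc (A 0 0 + 1) * (A 0 0 + 1) = (A 0 0 * A 0 0 + 1) + (A 0 0 + A 0 0) := by ring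
        _ = 0 := by rw [h9, T.add_self (h2 := I.h2), T.add_self (h2 := I.h2), add_zero]
    have h9 : A 0 0 + 1 = 0 := mul_self_eq_zero.mp h8
    calc A 0 0 = A 0 0 + (1 + 1) := by rw [T.add_self (h2 := I.h2), add_zero]
      _ = (A 0 0 + 1) + 1 := by ring
      _ = 1 := by rw [h9, zero_add]
  ext i j
  fin_cases i <;> fin_cases j
  · simpa using h7
  · simpa using e2
  · simpa using e1
  · simp only [Fin.mk_one, Fin.isValue, Matrix.one_apply_eq]
    rw [← h6]; exact h7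

end gin

end Cfsg.Agent.RankTwoClose.XSide

end

section


/-!
# The group `X = ⟨Q, Q'⟩` (type beta): the action on `O/V`, and `C_X(V) = O`
-/

set_option autoImplicit false
set_option linter.unusedSectionVars false

open Subgroup

namespace Cfsg.Agent.RankTwoClose.XSide

open Cfsg.Agent.Omega.NOne.SU

variable {G : Type*} [Group G] {k F : Type*} [Field k] [Field F] [Algebra k F]

section basic

variable {T : Quad k F} {S : Sylow 2 G} {V R Q Q' : Subgroup G} {v : k → F → k → G} {p p' : G → F}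
  (I : GIn T S V R Q Q' v p p')
include I

theorem Q'_NV : Q' ≤ normalizer (V : Set G) := by
  have key : ∀ y ∈ Q', ∀ x ∈ V, y * x * y⁻¹ ∈ V := by
    intro y hy x hx
    obtain ⟨a, b, d, rfl⟩ := I.v_surj x hx
    rw [I.act' y hy]
    exact I.v_mem _ _ _
  intro y hy
  rw [mem_normalizer_iff]
  intro x
  refine ⟨key y hy x, fun h => ?_⟩
  have := key y⁻¹ (inv_mem hy) _ h
  simpa [mul_assoc] using this

theorem X_NV : Q ⊔ Q' ≤ normalizer (V : Set G) := sup_le I.Q_NV (Q'_NV I)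

/-- conjugates of elements of `C(V)` by elements of `N(V)` -/
theorem cen_conj {x c : G} (hx : x ∈ normalizer (V : Set G)) (hc : c ∈ centralizer (V : Set G)) :
    x * c * x⁻¹ ∈ centralizer (V : Set G) := by
  have _ := I.h2
  rw [mem_centralizer_iff] at hc ⊢
  intro z hz
  have h1 : x⁻¹ * z * x ∈ V := by
    have := (mem_normalizer_iff.1 (inv_mem hx) z).1 hz
    rwa [inv_inv] at this
  have h2 := hc _ h1
  calc z * (x * c * x⁻¹) = x * ((x⁻¹ * z * x) * c) * x⁻¹ := by group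
    _ = x * (c * (x⁻¹ * z * x)) * x⁻¹ := by rw [h2]
    _ = x * c * x⁻¹ * z := by group

theorem CV_NR : centralizer (V : Set G) ≤ normalizer (R : Set G) := I.CV_le_CR.trans I.CR_le_NR

/-- `C(V)` normalises `Q` -/
theorem CV_Q {c y : G} (hc : c ∈ centralizer (V : Set G)) (hy : y ∈ Q) : c * y * c⁻¹ ∈ Q :=
  I.nor c (CV_NR I hc) y hy

theorem CV_Q' {c y : G} (hc : c ∈ centralizer (V : Set G)) (hy : y ∈ Q') : c * y * c⁻¹ ∈ Q' :=
  I.nor' c hc y hy

theorem meet_V : Q ⊓ Q' ≤ V := by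
  rintro x ⟨h1, h2⟩
  obtain ⟨b, rfl⟩ := I.meet x h1 h2
  exact I.v_mem _ _ _

theorem p'_one : p' 1 = 0 := by
  have := I.p'_add 1 (one_mem _) 1 (one_mem _)
  rw [mul_one] at this
  exact left_eq_add.1 this

/-- `[C_{Q'}(V), Q] ≤ C_Q(V)` -/
theorem comm_CQ {b y : G} (hb : b ∈ Q') (hbV : b ∈ centralizer (V : Set G)) (hy : y ∈ Q) :
    b * y * b⁻¹ * y⁻¹ ∈ Q ∧ b * y * b⁻¹ * y⁻¹ ∈ centralizer (V : Set G) := by
  have _ := hb
  refine ⟨mul_mem (CV_Q I hbV hy) (inv_mem hy), ?_⟩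
  have e : b * y * b⁻¹ * y⁻¹ = b * (y * b⁻¹ * y⁻¹) := by group
  rw [e]
  exact mul_mem hbV (cen_conj I (I.Q_NV hy) (inv_mem hbV))

/-- `[Q', C_Q(V)] ≤ C_{Q'}(V)` -/
theorem comm_CQ' {z a : G} (hz : z ∈ Q') (haV : a ∈ centralizer (V : Set G)) :
    z * a * z⁻¹ * a⁻¹ ∈ Q' ∧ z * a * z⁻¹ * a⁻¹ ∈ centralizer (V : Set G) := by
  constructor
  · have e : z * a * z⁻¹ * a⁻¹ = z * (a * z⁻¹ * a⁻¹) := by group
    rw [e]
    exact mul_mem hz (CV_Q' I haV (inv_mem hz))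
  · exact mul_mem (cen_conj I (Q'_NV I hz) haV) (inv_mem haV)

/-- `V ∩ Q` -/
theorem mem_E {z : G} (hz : z ∈ V) (hQ : z ∈ Q) : ∃ a b, z = v a b 0 := by
  obtain ⟨a, b, d, rfl⟩ := I.v_surj z hz
  have := I.V_Q a b d hQ
  exact ⟨a, b, by rw [this]⟩

/-- `V ∩ Q' ⊇ v 0 b d` -/
theorem split_V {z : G} (hz : z ∈ V) : ∃ e ∈ Q, ∃ e' ∈ Q', e ∈ V ∧ e' ∈ V ∧ z = e * e' := by
  obtain ⟨a, b, d, rfl⟩ := I.v_surj z hz
  refine ⟨v a b 0, I.E_le a b, v 0 0 d, I.E'_le 0 d, I.v_mem _ _ _, I.v_mem _ _ _, ?_⟩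
  rw [← I.v_add, add_zero, add_zero, zero_add]

end basic

section fld

variable {T : Quad k F} {S : Sylow 2 G} {V R Q Q' : Subgroup G} {v : k → F → k → G} {p p' : G → F}
  {Φ : Type*} [AddCommGroup Φ] [Module F Φ] {φ χ : G → Φ}
  (I : GIn T S V R Q Q' v p p') (D : Fld T V R Q Q' v p φ χ)
include I D

theorem neg_Φ (u : Φ) : -u = u := by
  have _ := D
  have h1 : (2 : F) • u = 0 := by rw [T.twoF I.h2, zero_smul]
  rw [two_smul] at h1
  exact neg_eq_of_add_eq_zero_left h1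

theorem φ_one : φ 1 = 0 := by
  have _ := I
  have := D.φ_add 1 (one_mem _) (one_mem _) 1 (one_mem _) (one_mem _)
  rw [mul_one] at this
  exact left_eq_add.1 this

theorem χ_one : χ 1 = 0 := by
  have _ := I
  have := D.χ_add 1 (one_mem _) (one_mem _) 1 (one_mem _) (one_mem _)
  rw [mul_one] at this
  exact left_eq_add.1 this

theorem φ_inv {a : G} (ha : a ∈ Q) (haV : a ∈ centralizer (V : Set G)) : φ a⁻¹ = φ a := by
  have := D.φ_add a⁻¹ (inv_mem ha) (inv_mem haV) a ha haV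
  rw [inv_mul_cancel, φ_one I D] at this
  rw [← neg_Φ I D (φ a)]
  exact eq_neg_of_add_eq_zero_left this.symm

theorem χ_inv {a : G} (ha : a ∈ Q') (haV : a ∈ centralizer (V : Set G)) : χ a⁻¹ = χ a := by
  have := D.χ_add a⁻¹ (inv_mem ha) (inv_mem haV) a ha haV
  rw [inv_mul_cancel, χ_one I D] at this
  rw [← neg_Φ I D (χ a)]
  exact eq_neg_of_add_eq_zero_left this.symm

/-- `χ` kills `V ∩ Q'` -/
theorem χ_V {n : G} (hn : n ∈ Q') (hnV : n ∈ V) : χ n = 0 := by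
  obtain ⟨y, hy, hp⟩ := I.p_surj 1
  have h1 := D.bil y hy n hn (I.V_CV hnV)
  rw [hp, one_smul] at h1
  rw [← h1]
  have h2 : n * y * n⁻¹ * y⁻¹ ∈ V := by
    have e : n * y * n⁻¹ * y⁻¹ = n * (y * n⁻¹ * y⁻¹) := by group
    rw [e]
    exact mul_mem hnV ((mem_normalizer_iff.1 (I.Q_NV hy) _).1 (inv_mem hnV))
  have h3 := comm_CQ I hn (I.V_CV hnV) hy
  obtain ⟨a, b, e⟩ := mem_E I h2 h3.1
  exact (D.φ_ker _ h3.1 h3.2).2 ⟨a, b, e⟩

theorem φ_V {n : G} (hn : n ∈ Q) (hnV : n ∈ V) : φ n = 0 := by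
  obtain ⟨a, b, e⟩ := mem_E I hnV hn
  exact (D.φ_ker _ hn (I.V_CV hnV)).2 ⟨a, b, e⟩

/-- elements of `C_Q(V)` congruent modulo `V` have the same image -/
theorem φ_congr {a a' z : G} (ha : a ∈ Q) (haV : a ∈ centralizer (V : Set G)) (ha' : a' ∈ Q)
    (haV' : a' ∈ centralizer (V : Set G)) (hz : z ∈ V) (e : a = z * a') : φ a = φ a' := by
  have hzQ : z ∈ Q := by
    have : z = a * a'⁻¹ := by rw [e]; group
    rw [this]; exact mul_mem ha (inv_mem ha')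
  rw [e, D.φ_add z hzQ (I.V_CV hz) a' ha' haV', φ_V I D hzQ hz, zero_add]

theorem χ_congr {a a' z : G} (ha : a ∈ Q') (haV : a ∈ centralizer (V : Set G)) (ha' : a' ∈ Q')
    (haV' : a' ∈ centralizer (V : Set G)) (hz : z ∈ V) (e : a = z * a') : χ a = χ a' := by
  have hzQ : z ∈ Q' := by
    have : z = a * a'⁻¹ := by rw [e]; group
    rw [this]; exact mul_mem ha (inv_mem ha')
  rw [e, D.χ_add z hzQ (I.V_CV hz) a' ha' haV', χ_V I D hzQ hz, zero_add]

/-- `a b = z a' b'` with `a, a' ∈ C_Q(V)`, `b, b' ∈ C_{Q'}(V)`, `z ∈ V` -/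
theorem φχ_congr {a a' b b' z : G} (ha : a ∈ Q) (haV : a ∈ centralizer (V : Set G)) (ha' : a' ∈ Q)
    (haV' : a' ∈ centralizer (V : Set G)) (hb : b ∈ Q') (hbV : b ∈ centralizer (V : Set G))
    (hb' : b' ∈ Q') (hbV' : b' ∈ centralizer (V : Set G)) (hz : z ∈ V) (e : a * b = z * (a' * b')) :
    φ a = φ a' ∧ χ b = χ b' := by
  -- `a'⁻¹ z⁻¹ a = b' b⁻¹`
  obtain ⟨e1, he1, e2, he2, h1, h2, rfl⟩ := split_V I hz
  have hc : ∀ z ∈ V, ∀ c ∈ centralizer (V : Set G), z * c = c * z := fun z hz c hc =>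
    mem_centralizer_iff.1 hc z hz
  -- `(e1 a')⁻¹ a = e2 b' b⁻¹`
  have e3 : (e1 * a')⁻¹ * a = e2 * b' * b⁻¹ := by
    have h3 : a = e1 * a' * (e2 * b' * b⁻¹) := by
      calc a = a * b * b⁻¹ := by group
        _ = e1 * (e2 * a') * b' * b⁻¹ := by rw [e]; group
        _ = e1 * (a' * e2) * b' * b⁻¹ := by rw [hc e2 h2 a' haV']
        _ = _ := by group
    conv_lhs => rw [h3]
    group
  have h3 : (e1 * a')⁻¹ * a ∈ V := by
    refine meet_V I (mem_inf.2 ⟨mul_mem (inv_mem (mul_mem he1 ha')) ha, ?_⟩)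
    rw [e3]
    exact mul_mem (mul_mem he2 hb') (inv_mem hb)
  constructor
  · have h4 : (e1 * a')⁻¹ * a * e1 ∈ V := mul_mem h3 h1
    refine φ_congr I D ha haV ha' haV' (z := e1 * ((e1 * a')⁻¹ * a)) (mul_mem h1 h3) ?_
    have h5 := hc _ h3 a' haV'
    calc a = e1 * (a' * ((e1 * a')⁻¹ * a)) := by group
      _ = e1 * (((e1 * a')⁻¹ * a) * a') := by rw [h5]
      _ = _ := by group
  · rw [e3] at h3
    refine (χ_congr I D hb' hbV' hb hbV (z := e2⁻¹ * (e2 * b' * b⁻¹)) (mul_mem (inv_mem h2) h3) ?_).symm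
    group

/-- the action on `O/V` -/
def OAct (V Q Q' : Subgroup G) (φ χ : G → Φ) (x : G) (A : Matrix (Fin 2) (Fin 2) F) : Prop :=
  ∀ a ∈ Q, a ∈ centralizer (V : Set G) → ∀ b ∈ Q', b ∈ centralizer (V : Set G) →
    ∃ a' ∈ Q, a' ∈ centralizer (V : Set G) ∧ ∃ b' ∈ Q', b' ∈ centralizer (V : Set G) ∧ ∃ z ∈ V,
      x * (a * b) * x⁻¹ = z * (a' * b') ∧ φ a' = A 0 0 • φ a + A 0 1 • χ b ∧
      χ b' = A 1 0 • φ a + A 1 1 • χ b

omit I D in
theorem OAct.one : OAct V Q Q' φ χ (1 : G) (1 : Matrix (Fin 2) (Fin 2) F) := by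
  intro a ha haV b hb hbV
  refine ⟨a, ha, haV, b, hb, hbV, 1, one_mem _, by group, ?_, ?_⟩ <;> simp

omit I D in
theorem OAct.mul {x y : G} {A B : Matrix (Fin 2) (Fin 2) F} (hx : OAct V Q Q' φ χ x A)
    (hy : OAct V Q Q' φ χ y B) (hxV : x ∈ normalizer (V : Set G)) :
    OAct V Q Q' φ χ (x * y) (A * B) := by
  intro a ha haV b hb hbV
  obtain ⟨a', ha', haV', b', hb', hbV', z, hz, e, e1, e2⟩ := hy a ha haV b hb hbV
  obtain ⟨a'', ha'', haV'', b'', hb'', hbV'', z', hz', e', e1', e2'⟩ := hx a' ha' haV' b' hb' hbV'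
  refine ⟨a'', ha'', haV'', b'', hb'', hbV'', (x * z * x⁻¹) * z',
    mul_mem ((mem_normalizer_iff.1 hxV _).1 hz) hz', ?_, ?_, ?_⟩
  · calc x * y * (a * b) * (x * y)⁻¹ = x * (y * (a * b) * y⁻¹) * x⁻¹ := by group
      _ = (x * z * x⁻¹) * (x * (a' * b') * x⁻¹) := by rw [e]; group
      _ = _ := by rw [e']; group
  · rw [e1', e1, e2]
    simp only [Matrix.mul_apply, Fin.sum_univ_two, smul_add, add_smul, smul_smul]
    abel
  · rw [e2', e1, e2]
    simp only [Matrix.mul_apply, Fin.sum_univ_two, smul_add, add_smul, smul_smul]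
    abel

/-- `y ∈ Q` -/
theorem OAct_Q {y : G} (hy : y ∈ Q) : OAct V Q Q' φ χ y !![1, p y; 0, 1] := by
  intro a ha haV b hb hbV
  obtain ⟨h1, h2⟩ := comm_CQ I hb hbV hy
  have h3 := D.bil y hy b hb hbV
  set c := b * y * b⁻¹ * y⁻¹ with hc
  have h4 : y * a * y⁻¹ * a⁻¹ ∈ R := I.sp.comm y hy a ha
  refine ⟨a * c⁻¹, mul_mem ha (inv_mem h1), mul_mem haV (inv_mem h2), b, hb, hbV, _, I.R_V h4, ?_, ?_, ?_⟩
  · rw [hc]; group
  · rw [D.φ_add a ha haV _ (inv_mem h1) (inv_mem h2), φ_inv I D h1 h2, h3]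
    simp
  · simp

end fld

section ext

variable {T : Quad k F} {S : Sylow 2 G} {V R Q Q' : Subgroup G} {v : k → F → k → G} {p p' : G → F}
  {Φ : Type*} [AddCommGroup Φ] [Module F Φ] {φ χ : G → Φ}
  (I : GIn T S V R Q Q' v p p') (D : Fld T V R Q Q' v p φ χ) (Ex : Ext V R Q Q' p')
include I D Ex

/-- an element which maps `Q` to `Q'` -/
theorem exists_n {s : G} (hs : s ∈ Q ⊔ Q')
    (hsR : ∀ a, ∃ d, s * v a 0 0 * s⁻¹ = v 0 0 d) : ∀ y ∈ Q, s * y * s⁻¹ ∈ Q' := by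
  obtain ⟨n, hn, hnQ⟩ := Ex.sw
  -- `C_V(Q') = {v 0 0 d}`
  have hC' : ∀ z ∈ V, (∀ y ∈ Q', y * z * y⁻¹ = z) → ∃ d, z = v 0 0 d := by
    intro z hz h
    obtain ⟨a, b, d, rfl⟩ := I.v_surj z hz
    refine ⟨d, ?_⟩
    have h0 : ∀ l : F, T.sg l * algebraMap k F a = 0 ∧ T.tr (l * b) + T.nm l * a = 0 := by
      intro l
      obtain ⟨y, hy, hp⟩ := Ex.p'_surj l
      have h1 := h y hy
      rw [I.act' y hy, hp] at h1
      obtain ⟨-, h2, h3⟩ := I.v_eq h1
      constructor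
      · exact left_eq_add.1 h2.symm
      · rw [add_assoc] at h3
        exact left_eq_add.1 h3.symm
    have ha : a = 0 := by
      have := (h0 1).1
      rw [map_one, one_mul] at this
      exact (map_eq_zero (algebraMap k F)).1 this
    have hb : b = 0 := by
      apply T.eq_zero_of_tr I.h2
      intro l
      have := (h0 l).2
      rw [ha, mul_zero, add_zero] at this
      rwa [mul_comm]
    rw [ha, hb]
  -- `n R n⁻¹ ≤ {v 0 0 d}`; `n⁻¹ s` normalises `R`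
  have hnV := X_NV I hn
  have hR' : ∀ d, ∀ y ∈ Q', y * v 0 0 d * y⁻¹ = v 0 0 d := by
    intro d y hy
    rw [I.act' y hy]
    simp
  have h1 : ∀ r ∈ R, (n⁻¹ * s) * r * (n⁻¹ * s)⁻¹ ∈ R := by
    intro r hr
    obtain ⟨a, rfl⟩ := I.mem_R.1 hr
    obtain ⟨d, hd⟩ := hsR a
    have e : (n⁻¹ * s) * v a 0 0 * (n⁻¹ * s)⁻¹ = n⁻¹ * v 0 0 d * n := by
      rw [← hd]; group
    rw [e]
    -- it commutes with `Q`
    have hQ : n⁻¹ * v 0 0 d * n ∈ Q := by
      have h3 : n * (n⁻¹ * v 0 0 d * n) * n⁻¹ ∈ Q' := by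
        have e2 : n * (n⁻¹ * v 0 0 d * n) * n⁻¹ = v 0 0 d := by group
        rw [e2]; exact I.E'_le 0 d
      exact (hnQ _).2 h3
    refine I.sp.cent _ hQ fun y hy => ?_
    have h3 := hR' d _ ((hnQ y).1 hy)
    calc n⁻¹ * v 0 0 d * n * y = n⁻¹ * (v 0 0 d * (n * y * n⁻¹)) * n := by group
      _ = n⁻¹ * ((n * y * n⁻¹) * v 0 0 d * (n * y * n⁻¹)⁻¹ * (n * y * n⁻¹)) * n := by rw [h3]
      _ = y * (n⁻¹ * v 0 0 d * n) := by group
  have h2 : (n⁻¹ * s) ∈ normalizer (R : Set G) := by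
    -- `R` is finite: use the bijection `R ≅ k`
    have := T.fink
    have hfin : Finite R := by
      have hs : Function.Surjective (fun a : k => (⟨v a 0 0, I.sp.a_mem a⟩ : R)) := by
        rintro ⟨r, hr⟩
        obtain ⟨a, rfl⟩ := I.mem_R.1 hr
        exact ⟨a, rfl⟩
      exact Finite.of_surjective _ hs
    let f : R → R := fun r => ⟨(n⁻¹ * s) * r * (n⁻¹ * s)⁻¹, h1 r r.2⟩
    have hf : Function.Injective f := by
      intro r r' hrr
      have := congrArg Subtype.val hrr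
      exact Subtype.ext (by
        have e : (n⁻¹ * s) * (r : G) * (n⁻¹ * s)⁻¹ = (n⁻¹ * s) * r' * (n⁻¹ * s)⁻¹ := this
        exact mul_left_cancel (mul_right_cancel e))
    have hf' := Finite.surjective_of_injective hf
    rw [mem_normalizer_iff]
    intro r
    refine ⟨h1 r, fun hr => ?_⟩
    obtain ⟨r', hr'⟩ := hf' ⟨_, hr⟩
    have e : (n⁻¹ * s) * (r' : G) * (n⁻¹ * s)⁻¹ = (n⁻¹ * s) * r * (n⁻¹ * s)⁻¹ :=
      congrArg Subtype.val hr'
    have e2 : (r' : G) = r := mul_left_cancel (mul_right_cancel e)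
    rw [← e2]; exact r'.2
  intro y hy
  have h3 := I.nor _ h2 y hy
  have h4 := (hnQ _).1 h3
  have e : n * (n⁻¹ * s * y * (n⁻¹ * s)⁻¹) * n⁻¹ = s * y * s⁻¹ := by group
  rwa [e] at h4

/-- `y z y` with `p y = l⁻¹`, `p' z = l` maps `R` to `R'` -/
theorem swap_R {l : F} (hl : l ≠ 0)
    {y z : G} (hy : y ∈ Q) (hz : z ∈ Q') (hpy : p y = l⁻¹) (hpz : p' z = l) (a : k) :
    (y * z * y) * v a 0 0 * (y * z * y)⁻¹ = v 0 0 (T.nm l * a) := by
  have e : (y * z * y) * v a 0 0 * (y * z * y)⁻¹ = y * (z * (y * v a 0 0 * y⁻¹) * z⁻¹) * y⁻¹ := by group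
  have e1 : y * v a 0 0 * y⁻¹ = v a 0 0 := by rw [I.act y hy]; simp
  have e2 : z * v a 0 0 * z⁻¹ = v a (T.sg l * algebraMap k F a) (T.nm l * a) := by
    rw [I.act' z hz, hpz]; simp
  rw [e, e1, e2, I.act y hy, hpy]
  have hs : T.sg l ≠ 0 := T.sg_ne' hl
  congr 1
  · -- `a + tr(..) + nm(l⁻¹) nm(l) a = 0`
    have h1 : T.nm l⁻¹ * (T.nm l * a) = a := by
      rw [← mul_assoc, ← T.nm_mul, inv_mul_cancel₀ hl, T.nm_one, one_mul]
    have h2 : T.sg l⁻¹ * (T.sg l * algebraMap k F a) = algebraMap k F a := by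
      rw [map_inv₀, inv_mul_cancel_left₀ hs]
    rw [h1, h2, T.tr_alg I.h2, add_zero, T.add_selfk (h2 := I.h2)]
  · rw [map_mul, T.nm_eq]
    have : l⁻¹ * (l * T.sg l * algebraMap k F a) = T.sg l * algebraMap k F a := by
      rw [mul_assoc, inv_mul_cancel_left₀ hl]
    rw [this, T.add_self (h2 := I.h2)]

/-- **the other bilinearity**: `χ([z, a]) = p'(z) φ(a)` for `z ∈ Q'`, `a ∈ C_Q(V)` -/
theorem bil' {z a : G} (hz : z ∈ Q') (ha : a ∈ Q)
    (haV : a ∈ centralizer (V : Set G)) : χ (z * a * z⁻¹ * a⁻¹) = p' z • φ a := by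
  obtain ⟨hcQ, hcV⟩ := comm_CQ' I hz haV
  by_cases hl : p' z = 0
  · rw [hl, zero_smul]
    -- `z ∈ C(V)`
    have hzV : z ∈ centralizer (V : Set G) := by
      rw [mem_centralizer_iff]
      intro x hx
      obtain ⟨a', b, d, rfl⟩ := I.v_surj x hx
      have h1 := I.act' z hz a' b d
      rw [hl, map_zero, zero_mul, zero_mul, map_zero, T.nm_zero, zero_mul, add_zero, add_zero,
        add_zero] at h1
      calc v a' b d * z = (z * v a' b d * z⁻¹) * z := by rw [h1]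
        _ = z * v a' b d := by group
    refine χ_V I D hcQ (meet_V I (mem_inf.2 ⟨?_, hcQ⟩))
    exact mul_mem (CV_Q I hzV ha) (inv_mem ha)
  · obtain ⟨y, hy, hpy⟩ := I.p_surj (p' z)⁻¹
    have hsX : y * z * y ∈ Q ⊔ Q' :=
      mul_mem (mul_mem (mem_sup_left hy) (mem_sup_right hz)) (mem_sup_left hy)
    have hs := exists_n I D Ex hsX (fun a => ⟨_, swap_R I D Ex hl hy hz hpy rfl a⟩) a ha
    have hsV : (y * z * y) * a * (y * z * y)⁻¹ ∈ centralizer (V : Set G) :=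
      cen_conj I (X_NV I hsX) haV
    set c := z * a * z⁻¹ * a⁻¹ with hc
    -- `[c, y]`
    obtain ⟨h1, h2⟩ := comm_CQ I hcQ hcV hy
    have h3 := D.bil y hy c hcQ hcV
    rw [hpy] at h3
    set f := c * y * c⁻¹ * y⁻¹ with hf
    have h4 : y * a * y⁻¹ * a⁻¹ ∈ R := I.sp.comm y hy a ha
    set r := y * a * y⁻¹ * a⁻¹ with hr
    -- `s a s⁻¹ = (y z r z⁻¹ y⁻¹) f⁻¹ c r a`
    have e : (y * z * y) * a * (y * z * y)⁻¹ = (y * (z * r * z⁻¹) * y⁻¹) * (f⁻¹ * c * r * a) := by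
      rw [hf, hc, hr]; group
    have hrV := I.R_V h4
    have hz1 : y * (z * r * z⁻¹) * y⁻¹ ∈ V :=
      (mem_normalizer_iff.1 (I.Q_NV hy) _).1 ((mem_normalizer_iff.1 (Q'_NV I hz) _).1 hrV)
    -- `f⁻¹ c r a = r f⁻¹ (c a c⁻¹) c`
    have hcomm : ∀ z ∈ V, ∀ c ∈ centralizer (V : Set G), z * c = c * z := fun z hz c hc =>
      mem_centralizer_iff.1 hc z hz
    have e2 : f⁻¹ * c * r * a = r * (f⁻¹ * (c * a * c⁻¹) * c) := by
      have h5 := hcomm r hrV (f⁻¹ * c) (mul_mem (inv_mem h2) hcV)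
      calc f⁻¹ * c * r * a = (f⁻¹ * c * r) * a := by group
        _ = (r * (f⁻¹ * c)) * a := by rw [h5]
        _ = _ := by group
    rw [e2] at e
    have hca : c * a * c⁻¹ ∈ Q := CV_Q I hcV ha
    have hcaV : c * a * c⁻¹ ∈ centralizer (V : Set G) := mul_mem (mul_mem hcV haV) (inv_mem hcV)
    -- `1 * (s a s⁻¹) = z * (f⁻¹ (c a c⁻¹) * c)`
    obtain ⟨h5, -⟩ := φχ_congr I D (a := 1) (a' := f⁻¹ * (c * a * c⁻¹)) (b := (y * z * y) * a *
      (y * z * y)⁻¹) (b' := c) (z := (y * (z * r * z⁻¹) * y⁻¹) * r) (one_mem _) (one_mem _)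
      (mul_mem (inv_mem h1) hca) (mul_mem (inv_mem h2) hcaV) hs hsV hcQ hcV (mul_mem hz1 hrV)
      (by rw [one_mul, e]; group)
    rw [φ_one I D, D.φ_add _ (inv_mem h1) (inv_mem h2) _ hca hcaV, φ_inv I D h1 h2, h3] at h5
    -- `φ (c a c⁻¹) = φ a`
    have h6 : φ (c * a * c⁻¹) = φ a := by
      have h7 : c * a * c⁻¹ * a⁻¹ ∈ V := by
        refine meet_V I (mem_inf.2 ⟨mul_mem hca (inv_mem ha), ?_⟩)
        have e3 : c * a * c⁻¹ * a⁻¹ = c * (a * c⁻¹ * a⁻¹) := by group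
        rw [e3]
        exact mul_mem hcQ (CV_Q' I haV (inv_mem hcQ))
      exact φ_congr I D hca hcaV ha haV h7 (by group)
    rw [h6] at h5
    have h7 : φ a = (p' z)⁻¹ • χ c := by
      have := neg_Φ I D (φ a)
      rw [← this]
      exact neg_eq_of_add_eq_zero_left h5.symm
    rw [h7, smul_smul, mul_inv_cancel₀ hl, one_smul]

/-- `z ∈ Q'` -/
theorem OAct_Q' {z : G} (hz : z ∈ Q') :
    OAct V Q Q' φ χ z !![1, 0; p' z, 1] := by
  intro a ha haV b hb hbV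
  obtain ⟨h1, h2⟩ := comm_CQ' I hz haV
  have h3 := bil' I D Ex hz ha haV
  set c := z * a * z⁻¹ * a⁻¹ with hc
  obtain ⟨d, hd⟩ := I.comm' z hz b hb
  have hcomm : ∀ z ∈ V, ∀ c ∈ centralizer (V : Set G), z * c = c * z := fun z hz c hc =>
    mem_centralizer_iff.1 hc z hz
  have hdV := I.v_mem 0 0 d
  -- `[c, a] ∈ V`
  have h4 : c * a * c⁻¹ * a⁻¹ ∈ V := by
    refine meet_V I (mem_inf.2 ⟨mul_mem (CV_Q I h2 ha) (inv_mem ha), ?_⟩)
    have e3 : c * a * c⁻¹ * a⁻¹ = c * (a * c⁻¹ * a⁻¹) := by group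
    rw [e3]
    exact mul_mem h1 (CV_Q' I haV (inv_mem h1))
  refine ⟨a, ha, haV, c * b, mul_mem h1 hb, mul_mem h2 hbV, (c * a * c⁻¹ * a⁻¹) * v 0 0 d,
    mul_mem h4 hdV, ?_, ?_, ?_⟩
  · have h5 := hcomm _ hdV (c * a) (mul_mem h2 haV)
    have h6 := hcomm _ hdV (a * c) (mul_mem haV h2)
    calc z * (a * b) * z⁻¹ = (c * a) * ((z * b * z⁻¹ * b⁻¹) * b) := by rw [hc]; group
      _ = (c * a) * v 0 0 d * b := by rw [hd]; group
      _ = (c * a * c⁻¹ * a⁻¹) * ((a * c) * v 0 0 d) * b := by group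
      _ = (c * a * c⁻¹ * a⁻¹) * (v 0 0 d * (a * c)) * b := by rw [h6]
      _ = _ := by group
  · simp
  · rw [D.χ_add _ h1 h2 _ hb hbV, h3]
    simp

/-- **Every element of `X` has a matrix.** -/
theorem exists_mat [Finite G] {x : G} (hx : x ∈ Q ⊔ Q') :
    ∃ A : Matrix (Fin 2) (Fin 2) F, A.det = 1 ∧ VAct T v x A ∧ OAct V Q Q' φ χ x A := by
  -- the submonoid of `x ∈ N(V)` with such a matrix is a group
  let M : Submonoid G :=
    { carrier := {x | x ∈ normalizer (V : Set G) ∧ ∃ A : Matrix (Fin 2) (Fin 2) F,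
        A.det = 1 ∧ VAct T v x A ∧ OAct V Q Q' φ χ x A}
      one_mem' := ⟨one_mem _, 1, Matrix.det_one, VAct.one, OAct.one⟩
      mul_mem' := by
        rintro x y ⟨hx, A, hA, hA1, hA2⟩ ⟨hy, B, hB, hB1, hB2⟩
        exact ⟨mul_mem hx hy, A * B, by rw [Matrix.det_mul, hA, hB, one_mul], hA1.mul hB1,
          hA2.mul hB2 hx⟩ }
  let H : Subgroup G :=
    { M with
      inv_mem' := by
        intro x hx
        have h1 : x ^ (orderOf x - 1) ∈ M := pow_mem hx _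
        have h2 : x⁻¹ = x ^ (orderOf x - 1) := by
          rw [inv_eq_iff_mul_eq_one, ← pow_succ', Nat.sub_add_cancel (orderOf_pos x), pow_orderOf_eq_one]
        rw [h2]
        exact h1 }
  have hQ : Q ≤ H := fun y hy => ⟨I.Q_NV hy, _, by simp [Matrix.det_fin_two], VAct_Q I hy, OAct_Q I D hy⟩
  have hQ' : Q' ≤ H := fun y hy =>
    ⟨Q'_NV I hy, _, by simp [Matrix.det_fin_two], VAct_Q' I hy, OAct_Q' I D Ex hy⟩
  have h1 : Q ⊔ Q' ≤ H := sup_le hQ hQ'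
  exact (h1 hx).2

end ext

end Cfsg.Agent.RankTwoClose.XSide

end

end

-- merged: Cfsg.Agent.Mrg.RankTwoClose.QIn
section

section


/-!
# Quadrangles with a central parabolic: the input without torus and field

`structure QIn`: two groups `L` (`[L, R] = 1`, `Q = O₂(L)`, `R = [Q, Q]`), `X` (`O = O₂(X)`, `V` normal in
`X`, `[V, O] = 1`) with a common Sylow subgroup `U`.  `QIn.bn2`: `⟨L, X⟩` has a split `BN`-pair of rank two.
(`U₅(q)`: `L` of type `SU₃(q)`, `X` of type `L₂(q²)`, `V` the natural module `O₄⁻(q)`.)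
-/

set_option autoImplicit false

universe u

namespace Cfsg.Agent.RankTwoClose.QInput

open Cfsg.Agent.Omega.RootLemma Cfsg.Agent.RankTwoClose.UFour

variable {G : Type u} [Group G]

/-- The input. -/
structure QIn (S : Sylow 2 G) (L X U Q O V R A : Subgroup G) (n₀ m₀ z₀ w : G) : Prop where
  aL : PanOf.Abs L U Q n₀
  aX : PanOf.Abs X U O m₀
  /-- `U` is a Sylow subgroup of `L`, `X` -/
  sL : ∀ P ≤ L, IsPGroup 2 P → U ≤ P → P ≤ U
  sX : ∀ P ≤ X, IsPGroup 2 P → U ≤ P → P ≤ U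
  US : U ≤ S
  SL : ∀ s ∈ S, ∀ l ∈ L, s * l * s⁻¹ ∈ L
  LX : ∀ g ∈ L, cj g U = U → cj g X = X
  LV : ∀ g ∈ L, cj g U = U → cj g V = V
  XL : ∀ g ∈ X, cj g U = U → cj g L = L
  RV : R ≤ V
  VU : V ≤ U
  XV : X ≤ Subgroup.normalizer (V : Set G)
  OV : ∀ x ∈ O, ∀ v ∈ V, x * v = v * x
  CO : ∀ u ∈ U, (∀ v ∈ V, u * v = v * u) → u ∈ O
  LR : ∀ l ∈ L, ∀ z ∈ R, l * z = z * l
  comm : ⁅Q, Q⁆ = R
  sq : ∀ x ∈ Q, x * x ∈ R
  irr : ∀ N ≤ Q, (∀ l ∈ L, ∀ x ∈ N, l * x * l⁻¹ ∈ N) → N ≤ R ∨ Q ≤ N ⊔ R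
  QQ : ∀ g ∈ X, cj g U ≠ U → Q ⊓ cj g Q ≤ V
  RQ : ∀ g ∈ X, cj g U ≠ U → cj g R ⊓ Q = ⊥
  VR : ∀ g ∈ X, cj g U ≠ U → V ≤ cj g R ⊔ Q
  cE : ∀ g ∈ X, cj g U ≠ U → O.relIndex U ≤ Nat.card ↥((V ⊓ Q) ⊓ cj g (V ⊓ Q))
  opp : ∀ x ∈ V ⊓ Q, (∀ y ∈ cj n₀ (V ⊓ Q), x * y = y * x) → x ∈ R
  cD : Q.relIndex U ≤ Nat.card ↥((Q ⊓ Subgroup.centralizer (V : Set G)) ⊓
    cj n₀ (Q ⊓ Subgroup.centralizer (V : Set G)))
  ruling : ∀ v ∈ V, v ∉ Q → ∃ y ∈ cj n₀ V, cj (v * y * v) (cj n₀ U) = U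
  AL : A ≤ L
  AU : A ≤ Subgroup.normalizer (U : Set G)
  Aodd : Odd (Nat.card A)
  Aab : ∀ a ∈ A, ∀ b ∈ A, a * b = b * a
  AB : ∀ g ∈ L, cj g U = U → g ∈ U ⊔ A
  wQ : w ∈ Q
  cyc : Q ≤ Subgroup.closure {x | ∃ a ∈ A, x = a * w * a⁻¹} ⊔ R
  cent : ∀ s ∈ S, (∀ a ∈ A, a * s = s * a) → s ∈ R
  z₀R : z₀ ∈ R
  z₀1 : z₀ ≠ 1
  z₀S : ∀ s ∈ S, s * z₀ = z₀ * s
  c2 : ∃ N : Subgroup G, (∀ x ∈ N, x * z₀ = z₀ * x) ∧ IsPGroup 2 N ∧
    (∀ d, d * z₀ = z₀ * d → ∀ x ∈ N, d * x * d⁻¹ ∈ N) ∧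
    (∀ d, d * z₀ = z₀ * d → (∀ x ∈ N, d * x = x * d) → d ∈ N)
  tr : ∀ z ∈ R, z ≠ 1 → ∃ h, (∀ x ∈ Q, h * x * h⁻¹ ∈ Q) ∧ h * z₀ * h⁻¹ = z
  fixR : ∀ z ∈ R, (∀ g ∈ X, cj g U = U → g * z = z * g) → z = 1
  pair : ∃ a ∈ R, ∃ b ∈ R, a ≠ 1 ∧ b ≠ 1 ∧ a ≠ b

namespace QIn

variable {S : Sylow 2 G} {L X U Q O V R A : Subgroup G} {n₀ m₀ z₀ w : G}

section basic

variable (h : QIn S L X U Q O V R A n₀ m₀ z₀ w)
include h

theorem QU : Q ≤ U := h.aL.QU

theorem OU : O ≤ U := h.aX.QU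

theorem RQ' : R ≤ Q := by
  rw [← h.comm]
  exact (Subgroup.commutator_le).2 fun x hx y hy => by
    rw [commutatorElement_def]
    exact mul_mem (mul_mem (mul_mem hx hy) (inv_mem hx)) (inv_mem hy)

/-- `2`-elements of `L` normalising `U` -/
theorem two_L {x : G} (hx : x ∈ L) (hU : cj x U = U) {n : ℕ} (h2 : x ^ 2 ^ n = 1) : x ∈ U := by
  have h1 : IsPGroup 2 ((Subgroup.zpowers x ⊔ U : Subgroup G)) :=
    IsPGroup.to_sup_of_normal_right' (isPGroup_zpowers_of_pow h2) h.aL.two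
      (by rw [Subgroup.zpowers_le]; exact mem_norm_iff.mpr hU)
  exact h.sL _ (sup_le (by rw [Subgroup.zpowers_le]; exact hx) h.aL.UL) h1 le_sup_right
    (Subgroup.mem_sup_left (Subgroup.mem_zpowers x))

theorem two_X {x : G} (hx : x ∈ X) (hU : cj x U = U) {n : ℕ} (h2 : x ^ 2 ^ n = 1) : x ∈ U := by
  have h1 : IsPGroup 2 ((Subgroup.zpowers x ⊔ U : Subgroup G)) :=
    IsPGroup.to_sup_of_normal_right' (isPGroup_zpowers_of_pow h2) h.aL.two
      (by rw [Subgroup.zpowers_le]; exact mem_norm_iff.mpr hU)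
  exact h.sX _ (sup_le (by rw [Subgroup.zpowers_le]; exact hx) h.aX.UL) h1 le_sup_right
    (Subgroup.mem_sup_left (Subgroup.mem_zpowers x))

/-- The common Borel subgroup. -/
theorem B0_norm_L : (L ⊓ Subgroup.normalizer (U : Set G)) ⊔ (X ⊓ Subgroup.normalizer (U : Set G)) ≤
    Subgroup.normalizer (L : Set G) := by
  refine sup_le (inf_le_left.trans Subgroup.le_normalizer) fun x hx => ?_
  obtain ⟨h1, h2⟩ := Subgroup.mem_inf.mp hx
  exact mem_norm_iff.mpr (h.XL x h1 (mem_norm_iff.mp h2))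

theorem B0_norm_X : (L ⊓ Subgroup.normalizer (U : Set G)) ⊔ (X ⊓ Subgroup.normalizer (U : Set G)) ≤
    Subgroup.normalizer (X : Set G) := by
  refine sup_le (fun x hx => ?_) (inf_le_left.trans Subgroup.le_normalizer)
  obtain ⟨h1, h2⟩ := Subgroup.mem_inf.mp hx
  exact mem_norm_iff.mpr (h.LX x h1 (mem_norm_iff.mp h2))

theorem B0_norm_V : (L ⊓ Subgroup.normalizer (U : Set G)) ⊔ (X ⊓ Subgroup.normalizer (U : Set G)) ≤
    Subgroup.normalizer (V : Set G) := by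
  refine sup_le (fun x hx => ?_) (inf_le_left.trans h.XV)
  obtain ⟨h1, h2⟩ := Subgroup.mem_inf.mp hx
  exact mem_norm_iff.mpr (h.LV x h1 (mem_norm_iff.mp h2))

/-- `2`-elements of the Borel subgroup -/
theorem two_B0 [Finite G] {x : G}
    (hx : x ∈ (L ⊓ Subgroup.normalizer (U : Set G)) ⊔ (X ⊓ Subgroup.normalizer (U : Set G)))
    {n : ℕ} (h2 : x ^ 2 ^ n = 1) : x ∈ U := by
  have hn : X ⊓ Subgroup.normalizer (U : Set G) ≤
      Subgroup.normalizer ((L ⊓ Subgroup.normalizer (U : Set G) : Subgroup G) : Set G) := by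
    intro y hy
    obtain ⟨h1, h3⟩ := Subgroup.mem_inf.mp hy
    exact norm_inf (mem_norm_iff.mpr (h.XL y h1 (mem_norm_iff.mp h3))) (Subgroup.le_normalizer h3)
  rw [sup_comm] at hx
  obtain ⟨b, hb, l, hl, rfl⟩ := mem_sup_norm hn hx
  obtain ⟨hbX, hbN⟩ := Subgroup.mem_inf.mp hb
  -- the odd part of the order of `b`
  obtain ⟨j, m, hm, e⟩ := Nat.exists_eq_two_pow_mul_odd (orderOf_pos b).ne'
  have hbm : (b ^ m) ^ 2 ^ j = 1 := by
    rw [← pow_mul, mul_comm, ← e, pow_orderOf_eq_one]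
  have hbU : b ^ m ∈ U := h.two_X (pow_mem hbX m) (mem_norm_iff.mp (pow_mem hbN m)) hbm
  have hbL : b ^ m ∈ L ⊓ Subgroup.normalizer (U : Set G) :=
    Subgroup.mem_inf.mpr ⟨h.aL.UL hbU, Subgroup.le_normalizer hbU⟩
  have key : ∀ i : ℕ, ∃ v ∈ L ⊓ Subgroup.normalizer (U : Set G), (b * l) ^ i = b ^ i * v := by
    intro i
    induction i with
    | zero => exact ⟨1, one_mem _, by simp⟩
    | succ i ih =>
      obtain ⟨v, hv, e2⟩ := ih
      refine ⟨b⁻¹ * v * b * l, mul_mem (conj_mem' (hn hb) hv) hl, ?_⟩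
      rw [pow_succ, e2, pow_succ]; group
  obtain ⟨v, hv, e2⟩ := key m
  have h3 : (b * l) ^ m ∈ L ⊓ Subgroup.normalizer (U : Set G) := by
    rw [e2]; exact mul_mem hbL hv
  have h4 : ((b * l) ^ m) ^ 2 ^ n = 1 := by
    rw [← pow_mul, mul_comm, pow_mul, h2, one_pow]
  obtain ⟨h5, h6⟩ := Subgroup.mem_inf.mp h3
  have h7 := h.two_L h5 (mem_norm_iff.mp h6) h4
  -- `(b l)` is a power of `(b l) ^ m`
  have h8 : Nat.Coprime m (2 ^ n) := Nat.Coprime.pow_right n (Nat.coprime_two_right.mpr hm)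
  have h9 : b * l ∈ Subgroup.zpowers ((b * l) ^ m) := by
    have hg : Nat.gcd m (2 ^ n) = 1 := h8
    have hb := Nat.gcd_eq_gcd_ab m (2 ^ n)
    rw [hg] at hb
    refine ⟨Nat.gcdA m (2 ^ n), ?_⟩
    show ((b * l) ^ m) ^ (Nat.gcdA m (2 ^ n)) = b * l
    have h10 : (b * l) ^ ((1 : ℕ) : ℤ) = b * l := by simp
    rw [← zpow_natCast, ← zpow_mul]
    conv_rhs => rw [← h10, hb, zpow_add, zpow_mul _ ((2 ^ n : ℕ) : ℤ), zpow_natCast _ (2 ^ n), h2,
      one_zpow, mul_one]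
  exact (Subgroup.zpowers_le.mpr h7) h9

end basic

section opp

variable (h : QIn S L X U Q O V R A n₀ m₀ z₀ w)
include h

theorem RU : R ≤ U := h.RV.trans h.VU

theorem VL : V ≤ L := h.VU.trans h.aL.UL

/-- `R` commutes with `V` -/
theorem R_V {r v : G} (hr : r ∈ R) (hv : v ∈ V) : v * r = r * v := h.LR v (h.VL hv) r hr

theorem cj_L_R {g : G} (hg : g ∈ L) : cj g R = R := by
  ext x
  rw [mem_cj]
  constructor
  · intro hx
    have h1 := h.LR g hg _ hx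
    have e : x = g⁻¹ * x * g := by
      have : g * (g⁻¹ * x * g) = g⁻¹ * x * g * g := h1
      have h2 : x * g = g⁻¹ * x * g * g := by rw [← this]; group
      exact mul_right_cancel h2
    rw [e]; exact hx
  · intro hx
    have h1 := h.LR g hg x hx
    have e : g⁻¹ * x * g = x := by rw [mul_assoc, ← h1]; group
    rw [e]; exact hx

theorem cj_L_Q {g : G} (hg : g ∈ L) : cj g Q = Q := mem_norm_iff.mp (h.aL.LQ hg)

/-- the commutator of two elements of `Q`, as a correction -/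
theorem Q_comm {x y : G} (hx : x ∈ Q) (hy : y ∈ Q) : x * y * x⁻¹ * y⁻¹ ∈ R := by
  rw [← h.comm, ← commutatorElement_def]
  exact Subgroup.commutator_mem_commutator hx hy

theorem U_E : U ≤ Subgroup.normalizer ((V ⊓ Q : Subgroup G) : Set G) := fun _ hu =>
  norm_inf (h.XV (h.aX.UL hu)) (h.aL.LQ (h.aL.UL hu))

theorem inv_square_mem : n₀ * n₀ ∈ L ∧ cj (n₀ * n₀) U = U :=
  ⟨mul_mem h.aL.nL h.aL.nL, by rw [cj_mul, h.aL.swap]⟩

/-- `opp`, other direction -/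
theorem opp' {y : G} (hy : y ∈ cj n₀ (V ⊓ Q)) (hc : ∀ x ∈ V ⊓ Q, x * y = y * x) : y ∈ R := by
  obtain ⟨hL, hU⟩ := h.inv_square_mem
  have hE2 : cj (n₀ * n₀) (V ⊓ Q) = V ⊓ Q := by
    rw [cj_inf, h.LV _ hL hU, h.cj_L_Q hL]
  rw [mem_cj] at hy
  have h1 : n₀⁻¹ * y * n₀ ∈ R := by
    refine h.opp _ hy fun x hx => ?_
    -- `x ∈ cj n₀ E = cj n₀⁻¹ E`
    have h2 : cj n₀ (V ⊓ Q) = cj n₀⁻¹ (V ⊓ Q) := by
      conv_rhs => rw [← hE2, cj_mul, cj_inv_cj]
    rw [h2, mem_cj, inv_inv] at hx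
    have h3 := hc _ hx
    calc n₀⁻¹ * y * n₀ * x = n₀⁻¹ * (y * (n₀ * x * n₀⁻¹)) * n₀ := by group
      _ = n₀⁻¹ * ((n₀ * x * n₀⁻¹) * y) * n₀ := by rw [h3]
      _ = x * (n₀⁻¹ * y * n₀) := by group
  have h2 : cj n₀⁻¹ R = R := h.cj_L_R (inv_mem h.aL.nL)
  rw [← h2, mem_cj, inv_inv] at h1
  rwa [show n₀ * (n₀⁻¹ * y * n₀) * n₀⁻¹ = y by group] at h1

/-- an element of `Q` whose commutators are in `R`: correcting by `q ∈ Q` -/
theorem corr {q x : G} (hq : q ∈ Q) (hx : x ∈ Q) : ∃ r ∈ R, q * x * q⁻¹ = r * x := by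
  refine ⟨_, h.Q_comm hq hx, by group⟩

variable {n k q : G} (hn : n ∈ L) (hk : k ∈ U) (hq : q ∈ Q) (e : q * n = k * n₀ * k⁻¹)
include hn hk hq e

/-- `opp` for `n = q⁻¹ k n₀ k⁻¹` -/
theorem opp_n {x : G} (hx : x ∈ V ⊓ Q) (hc : ∀ y ∈ cj n (V ⊓ Q), x * y = y * x) : x ∈ R := by
  have hEk : cj k⁻¹ (V ⊓ Q) = V ⊓ Q := mem_norm_iff.mp (inv_mem (h.U_E hk))
  have hkL : k ∈ L := h.aL.UL hk
  have h1 : k⁻¹ * x * k ∈ R := by
    refine h.opp _ (by
      have := conj_mem' (h.U_E hk) hx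
      exact this) fun y hy => ?_
    -- `k y k⁻¹ = q y₁ q⁻¹` with `y₁ ∈ cj n E`
    have h2 : q⁻¹ * (k * y * k⁻¹) * q ∈ cj n (V ⊓ Q) := by
      have e1 : cj n (V ⊓ Q) = cj q⁻¹ (cj k (cj n₀ (V ⊓ Q))) := by
        have e2 : n = q⁻¹ * (k * n₀ * k⁻¹) := by rw [← e]; group
        conv_lhs => rw [e2, cj_mul, cj_mul, cj_mul, hEk]
      rw [e1, mem_cj, mem_cj, inv_inv]
      rwa [show k⁻¹ * (q * (q⁻¹ * (k * y * k⁻¹) * q) * q⁻¹) * k = y by group]
    have h3 := hc _ h2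
    -- `q x q⁻¹ = r x`
    obtain ⟨r, hr, er⟩ := h.corr hq (Subgroup.mem_inf.mp hx).2
    have hyQ : k * y * k⁻¹ ∈ Q := by
      have : y ∈ Q := by
        have h4 := cj_mono (g := n₀) (inf_le_right : V ⊓ Q ≤ Q) hy
        rwa [h.cj_L_Q h.aL.nL] at h4
      exact conj_mem (h.aL.LQ hkL) this
    have h5 : (q * x * q⁻¹) * (k * y * k⁻¹) = (k * y * k⁻¹) * (q * x * q⁻¹) := by
      calc (q * x * q⁻¹) * (k * y * k⁻¹) = q * (x * (q⁻¹ * (k * y * k⁻¹) * q)) * q⁻¹ := by group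
        _ = q * ((q⁻¹ * (k * y * k⁻¹) * q) * x) * q⁻¹ := by rw [h3]
        _ = (k * y * k⁻¹) * (q * x * q⁻¹) := by group
    rw [er] at h5
    have hyr : (k * y * k⁻¹) * r = r * (k * y * k⁻¹) :=
      h.LR _ (h.aL.UL (h.QU hyQ)) r hr
    have h6 : x * (k * y * k⁻¹) = (k * y * k⁻¹) * x := by
      apply mul_left_cancel (a := r)
      calc r * (x * (k * y * k⁻¹)) = r * x * (k * y * k⁻¹) := by group
        _ = (k * y * k⁻¹) * (r * x) := h5
        _ = ((k * y * k⁻¹) * r) * x := by group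
        _ = r * ((k * y * k⁻¹) * x) := by rw [hyr]; group
    calc k⁻¹ * x * k * y = k⁻¹ * (x * (k * y * k⁻¹)) * k := by group
      _ = k⁻¹ * ((k * y * k⁻¹) * x) * k := by rw [h6]
      _ = y * (k⁻¹ * x * k) := by group
  have h2 : cj k⁻¹ R = R := h.cj_L_R (inv_mem hkL)
  rw [← h2, mem_cj, inv_inv] at h1
  rwa [show k * (k⁻¹ * x * k) * k⁻¹ = x by group] at h1

/-- `opp'` for `n` -/
theorem opp_n' {y : G} (hy : y ∈ cj n (V ⊓ Q)) (hc : ∀ x ∈ V ⊓ Q, x * y = y * x) : y ∈ R := by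
  have hEk : cj k⁻¹ (V ⊓ Q) = V ⊓ Q := mem_norm_iff.mp (inv_mem (h.U_E hk))
  have hkL : k ∈ L := h.aL.UL hk
  have hyQ : y ∈ Q := by
    have h4 := cj_mono (g := n) (inf_le_right : V ⊓ Q ≤ Q) hy
    rwa [h.cj_L_Q hn] at h4
  have e1 : cj n (V ⊓ Q) = cj q⁻¹ (cj k (cj n₀ (V ⊓ Q))) := by
    have e2 : n = q⁻¹ * (k * n₀ * k⁻¹) := by rw [← e]; group
    conv_lhs => rw [e2, cj_mul, cj_mul, cj_mul, hEk]
  rw [e1, mem_cj, mem_cj, inv_inv] at hy
  obtain ⟨r, hr, er⟩ := h.corr hq hyQ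
  have h1 : k⁻¹ * (q * y * q⁻¹) * k ∈ R := by
    refine h.opp' hy fun x hx => ?_
    have hx' : k * x * k⁻¹ ∈ V ⊓ Q := conj_mem (h.U_E hk) hx
    have h3 := hc _ hx'
    rw [er]
    have hxr : (k * x * k⁻¹) * r = r * (k * x * k⁻¹) :=
      h.LR _ (h.VL (Subgroup.mem_inf.mp hx').1) r hr
    calc x * (k⁻¹ * (r * y) * k) = k⁻¹ * (((k * x * k⁻¹) * r) * y) * k := by group
      _ = k⁻¹ * (r * ((k * x * k⁻¹) * y)) * k := by rw [hxr]; group
      _ = k⁻¹ * (r * (y * (k * x * k⁻¹))) * k := by rw [h3]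
      _ = k⁻¹ * (r * y) * k * x := by group
  have h2 : cj k⁻¹ R = R := h.cj_L_R (inv_mem hkL)
  rw [← h2, mem_cj, inv_inv] at h1
  have h5 : r * y ∈ R := by
    rw [er] at h1
    rwa [show k * (k⁻¹ * (r * y) * k) * k⁻¹ = r * y by group] at h1
  have h6 := mul_mem (inv_mem hr) h5
  rwa [inv_mul_cancel_left] at h6

/-- conjugates of subgroups between `R` and `Q` -/
theorem cj_n {D : Subgroup G} (hRD : R ≤ D) (hDQ : D ≤ Q) (hUD : U ≤ Subgroup.normalizer (D : Set G)) :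
    cj n D = cj k (cj n₀ D) := by
  have hkL : k ∈ L := h.aL.UL hk
  have hDk : cj k⁻¹ D = D := mem_norm_iff.mp (inv_mem (hUD hk))
  have e1 : cj q (cj n D) = cj k (cj n₀ D) := by
    rw [← cj_mul, e, cj_mul, hDk, cj_mul]
  have h1 : cj q (cj n D) = cj n D := by
    have hnD : cj n D ≤ Q := by
      have h4 := cj_mono (g := n) hDQ
      rwa [h.cj_L_Q hn] at h4
    have hRn : R ≤ cj n D := by
      have h4 := cj_mono (g := n) hRD
      rwa [h.cj_L_R hn] at h4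
    rw [← mem_norm_iff]
    have key : ∀ p ∈ Q, ∀ x ∈ cj n D, p * x * p⁻¹ ∈ cj n D := by
      intro p hp x hx
      obtain ⟨r, hr, er⟩ := h.corr hp (hnD hx)
      rw [er]
      exact mul_mem (hRn hr) hx
    rw [Subgroup.mem_normalizer_iff]
    intro x
    constructor
    · exact key q hq x
    · intro hx
      have := key q⁻¹ (inv_mem hq) _ hx
      rwa [show q⁻¹ * (q * x * q⁻¹) * q⁻¹⁻¹ = x by group] at this
  rw [← e1, h1]

end opp

end QIn

end Cfsg.Agent.RankTwoClose.QInput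

end

section


/-!
# Quadrangles with a central parabolic: the supplements `X4`, `X1`
-/

set_option autoImplicit false

universe u

namespace Cfsg.Agent.RankTwoClose.QInput

open Cfsg.Agent.Omega.RootLemma Cfsg.Agent.RankTwoClose.UFour

variable {G : Type u} [Group G]

theorem le_sup_of_card [Finite G] {F K U : Subgroup G} (hF : F ≤ U) (hK : K ≤ U) (hd : F ⊓ K = ⊥)
    (hc : K.relIndex U ≤ Nat.card F) : U ≤ F ⊔ K := by
  have h1 : Nat.card K * K.relIndex U = Nat.card U := by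
    have := Subgroup.relIndex_mul_relIndex ⊥ K U bot_le hK
    rwa [Subgroup.relIndex_bot_left, Subgroup.relIndex_bot_left] at this
  have h2 : Nat.card F * Nat.card K ≤ Nat.card ↥(F ⊔ K) := by
    rw [← Nat.card_prod]
    refine Nat.card_le_card_of_injective
      (fun x : F × K => (⟨(x.1 : G) * x.2, mul_mem (Subgroup.mem_sup_left x.1.2)
        (Subgroup.mem_sup_right x.2.2)⟩ : ↥(F ⊔ K))) ?_
    rintro ⟨a, b⟩ ⟨c, d⟩ hab
    have e : (a : G) * b = c * d := congrArg Subtype.val hab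
    have e2 : (c : G)⁻¹ * a = d * (b : G)⁻¹ := by
      calc (c : G)⁻¹ * a = (c : G)⁻¹ * (a * b) * (b : G)⁻¹ := by group
        _ = d * (b : G)⁻¹ := by rw [e]; group
    have e3 : (c : G)⁻¹ * a ∈ F ⊓ K := Subgroup.mem_inf.mpr
      ⟨mul_mem (inv_mem c.2) a.2, by rw [e2]; exact mul_mem d.2 (inv_mem b.2)⟩
    rw [hd, Subgroup.mem_bot] at e3
    have e4 : (a : G) = c := (inv_mul_eq_one.mp e3).symm
    have e5 : (b : G) = d := by rw [e4] at e; exact mul_left_cancel e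
    exact Prod.ext (Subtype.ext e4) (Subtype.ext e5)
  have h3 : Nat.card U ≤ Nat.card ↥(F ⊔ K) := by
    rw [← h1, mul_comm]
    exact (Nat.mul_le_mul_right _ hc).trans h2
  exact (Subgroup.eq_of_le_of_card_ge (sup_le hF hK) h3).ge

/-- The Borel subgroup. -/
abbrev B0 (L X U : Subgroup G) : Subgroup G :=
  (L ⊓ Subgroup.normalizer (U : Set G)) ⊔ (X ⊓ Subgroup.normalizer (U : Set G))

/-- The torus and the reflections. -/
structure Cx (L X U Q O : Subgroup G) (n₀ : G) (H : Subgroup G) (n k q m : G) : Prop where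
  cpl : Cfsg.Agent.Omega.Hex.Cpl U (B0 L X U) H
  PL : Quad.Pan L U Q H n
  PX : Quad.Pan X U O H m
  nn : cj n (cj n U) = U
  mm : cj m (cj m U) = U
  hk : k ∈ U
  hq : q ∈ Q
  e : q * n = k * n₀ * k⁻¹
  nU : cj n U = cj k (cj n₀ U)
  bor : ∀ t ∈ L, cj t U = U → cj t (cj n U) = cj n U → t ∈ Q ⊔ (H ⊓ L)

namespace QIn

variable {S : Sylow 2 G} {L X U Q O V R A : Subgroup G} {n₀ m₀ z₀ w : G}
  (h : QIn S L X U Q O V R A n₀ m₀ z₀ w) {H : Subgroup G} {n k q m : G}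
  (c : Cx L X U Q O n₀ H n k q m)
include h c

theorem cn_R : cj n R = R := h.cj_L_R c.PL.nL

theorem cn_Q : cj n Q = Q := h.cj_L_Q c.PL.nL

theorem cm_V : cj m V = V := mem_norm_iff.mp (h.XV c.PX.nL)

theorem cm_inv_ne : cj m⁻¹ U ≠ U := by
  intro h1
  apply c.PX.ne
  have := congrArg (cj m) h1
  rwa [cj_cj_inv, eq_comm] at this

theorem X_norm_V {x : G} (hx : x ∈ X) : cj x V = V := mem_norm_iff.mp (h.XV hx)

/-- `X4` -/
theorem X4 [Finite G] : U ≤ cj n ((V ⊓ Q) ⊓ cj m (V ⊓ Q)) ⊔ O := by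
  have hF : cj n ((V ⊓ Q) ⊓ cj m (V ⊓ Q)) ≤ Q := by
    refine le_trans (cj_mono (inf_le_left.trans inf_le_right)) ?_
    rw [h.cn_Q c]
  refine le_sup_of_card (hF.trans h.QU) h.OU ?_ ?_
  · rw [eq_bot_iff]
    intro x hx
    obtain ⟨hx1, hx2⟩ := Subgroup.mem_inf.mp hx
    rw [cj_inf] at hx1
    obtain ⟨hx3, hx4⟩ := Subgroup.mem_inf.mp hx1
    have hxR : x ∈ R := h.opp_n' c.PL.nL c.hk c.hq c.e hx3 fun y hy =>
      (h.OV x hx2 y (Subgroup.mem_inf.mp hy).1).symm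
    -- `x ∈ cj m Q`
    have h1 : x ∈ cj m (V ⊓ Q) := by
      rw [mem_cj] at hx4
      have : n⁻¹ * x * n = x := by
        rw [mul_assoc, ← h.LR n c.PL.nL x hxR]; group
      rwa [this] at hx4
    rw [mem_cj] at h1
    have h2 : m⁻¹ * x * m ∈ cj m⁻¹ R ⊓ Q := Subgroup.mem_inf.mpr
      ⟨by rw [mem_cj, inv_inv]; rwa [show m * (m⁻¹ * x * m) * m⁻¹ = x by group],
        (Subgroup.mem_inf.mp h1).2⟩
    rw [h.RQ m⁻¹ (inv_mem c.PX.nL) (h.cm_inv_ne c), Subgroup.mem_bot] at h2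
    rw [Subgroup.mem_bot]
    calc x = m * (m⁻¹ * x * m) * m⁻¹ := by group
      _ = 1 := by rw [h2]; group
  · rw [card_cj]
    exact h.cE m c.PX.nL c.PX.ne

theorem D_ge : R ≤ Q ⊓ Subgroup.centralizer (V : Set G) := fun r hr =>
  Subgroup.mem_inf.mpr ⟨h.RQ' hr, Subgroup.mem_centralizer_iff.mpr fun _ hv => h.R_V hr hv⟩

theorem centralizer_norm {g : G} (hg : g ∈ Subgroup.normalizer (V : Set G)) :
    g ∈ Subgroup.normalizer ((Subgroup.centralizer (V : Set G) : Subgroup G) : Set G) := by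
  have _ := c.mm
  have _ := h.RV
  have key : ∀ g ∈ Subgroup.normalizer (V : Set G), ∀ x ∈ Subgroup.centralizer (V : Set G),
      g * x * g⁻¹ ∈ Subgroup.centralizer (V : Set G) := by
    intro g hg x hx
    rw [Subgroup.mem_centralizer_iff] at hx ⊢
    intro v hv
    have h1 := hx _ (conj_mem' hg hv)
    calc v * (g * x * g⁻¹) = g * ((g⁻¹ * v * g) * x) * g⁻¹ := by group
      _ = g * (x * (g⁻¹ * v * g)) * g⁻¹ := by rw [h1]
      _ = g * x * g⁻¹ * v := by group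
  rw [Subgroup.mem_normalizer_iff]
  intro x
  constructor
  · exact key g hg x
  · intro hx
    have := key _ (inv_mem hg) _ hx
    rwa [show g⁻¹ * (g * x * g⁻¹) * g⁻¹⁻¹ = x by group] at this

theorem U_D : U ≤ Subgroup.normalizer ((Q ⊓ Subgroup.centralizer (V : Set G) : Subgroup G) : Set G) :=
  fun _ hu => norm_inf (h.aL.LQ (h.aL.UL hu)) (h.centralizer_norm c (h.XV (h.aX.UL hu)))

theorem D_O : Q ⊓ Subgroup.centralizer (V : Set G) ≤ O := by
  have _ := c.mm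
  intro d hd
  obtain ⟨h1, h2⟩ := Subgroup.mem_inf.mp hd
  exact h.CO d (h.QU h1) fun v hv => (Subgroup.mem_centralizer_iff.mp h2 v hv).symm

/-- `X1` -/
theorem X1 [Finite G] : U ≤ cj m ((Q ⊓ Subgroup.centralizer (V : Set G)) ⊓
    cj n (Q ⊓ Subgroup.centralizer (V : Set G))) ⊔ Q := by
  have hF : cj m ((Q ⊓ Subgroup.centralizer (V : Set G)) ⊓
      cj n (Q ⊓ Subgroup.centralizer (V : Set G))) ≤ O := by
    refine le_trans (cj_mono (inf_le_left.trans (h.D_O c))) ?_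
    rw [mem_norm_iff.mp (c.PX.norm c.PX.nL)]
  refine le_sup_of_card (hF.trans h.OU) h.QU ?_ ?_
  · rw [eq_bot_iff]
    intro x hx
    obtain ⟨hx1, hx2⟩ := Subgroup.mem_inf.mp hx
    rw [mem_cj] at hx1
    obtain ⟨hx3, hx4⟩ := Subgroup.mem_inf.mp hx1
    -- `x ∈ V`
    have hxV : x ∈ V := h.QQ m c.PX.nL c.PX.ne (Subgroup.mem_inf.mpr
      ⟨hx2, by rw [mem_cj]; exact (Subgroup.mem_inf.mp hx3).1⟩)
    have hyV : m⁻¹ * x * m ∈ V := conj_mem' (h.XV c.PX.nL) hxV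
    have hyR : m⁻¹ * x * m ∈ R := by
      refine h.opp_n c.PL.nL c.hk c.hq c.e (Subgroup.mem_inf.mpr
        ⟨hyV, (Subgroup.mem_inf.mp hx3).1⟩) fun y hy => ?_
      rw [mem_cj] at hx4 hy
      have h1 := Subgroup.mem_centralizer_iff.mp (Subgroup.mem_inf.mp hx4).2 _
        (Subgroup.mem_inf.mp hy).1
      calc m⁻¹ * x * m * y = n * ((n⁻¹ * (m⁻¹ * x * m) * n) * (n⁻¹ * y * n)) * n⁻¹ := by group
        _ = n * ((n⁻¹ * y * n) * (n⁻¹ * (m⁻¹ * x * m) * n)) * n⁻¹ := by rw [h1]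
        _ = y * (m⁻¹ * x * m) := by group
    have h2 : x ∈ cj m R ⊓ Q := Subgroup.mem_inf.mpr ⟨mem_cj.mpr hyR, hx2⟩
    rwa [h.RQ m c.PX.nL c.PX.ne] at h2
  · rw [card_cj, h.cj_n c.PL.nL c.hk c.hq c.e (h.D_ge c) inf_le_left (h.U_D c)]
    have h2 : ∀ D D' : Subgroup G, cj k D = D → Nat.card ↥(D ⊓ cj k D') = Nat.card ↥(D ⊓ D') := by
      intro D D' hD
      rw [← card_cj k (D ⊓ D'), cj_inf, hD]
    rw [h2 _ _ (mem_norm_iff.mp (h.U_D c c.hk))]
    exact h.cD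

end QIn

end Cfsg.Agent.RankTwoClose.QInput

end

section


/-!
# Quadrangles with a central parabolic: the torus, the central root group
-/

set_option autoImplicit false

universe u

namespace Cfsg.Agent.RankTwoClose.QInput

open Cfsg.Agent.Omega.RootLemma Cfsg.Agent.RankTwoClose.UFour

variable {G : Type u} [Group G]

theorem exists_pow_one {P : Subgroup G} (hP : IsPGroup 2 P) {x : G} (hx : x ∈ P) :
    ∃ j, x ^ 2 ^ j = 1 := by
  obtain ⟨j, hj⟩ := hP ⟨x, hx⟩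
  exact ⟨j, congrArg Subtype.val hj⟩

namespace QIn

variable {S : Sylow 2 G} {L X U Q O V R A : Subgroup G} {n₀ m₀ z₀ w : G}

section B0

variable [Finite G] (h : QIn S L X U Q O V R A n₀ m₀ z₀ w)
include h

theorem nt : Cfsg.Agent.Omega.Hex.NT U (B0 L X U) := by
  have hUB : U ≤ B0 L X U := fun x hx =>
    Subgroup.mem_sup_left (Subgroup.mem_inf.mpr ⟨h.aL.UL hx, Subgroup.le_normalizer hx⟩)
  have hn : B0 L X U ≤ Subgroup.normalizer (U : Set G) := sup_le inf_le_right inf_le_right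
  refine ⟨hUB, hn, h.aL.two, ?_⟩
  by_contra hodd
  rw [Nat.not_odd_iff_even, even_iff_two_dvd] at hodd
  have hN : (U.subgroupOf (B0 L X U)).Normal := Subgroup.normal_subgroupOf_of_le_normalizer hn
  have h2 : 2 ∣ Nat.card (↥(B0 L X U) ⧸ U.subgroupOf (B0 L X U)) := hodd
  have : Fact (Nat.Prime 2) := ⟨Nat.prime_two⟩
  obtain ⟨t, ht⟩ := exists_prime_orderOf_dvd_card' 2 h2
  obtain ⟨b, rfl⟩ := QuotientGroup.mk_surjective t
  have hb2 : (b : G) ^ 2 ∈ U := by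
    have h3 : (QuotientGroup.mk (b ^ 2) : ↥(B0 L X U) ⧸ U.subgroupOf (B0 L X U)) = 1 := by
      rw [QuotientGroup.mk_pow, ← ht, pow_orderOf_eq_one]
    rw [QuotientGroup.eq_one_iff, Subgroup.mem_subgroupOf] at h3
    exact h3
  have hbU : (b : G) ∉ U := by
    intro hb
    have h3 : (QuotientGroup.mk b : ↥(B0 L X U) ⧸ U.subgroupOf (B0 L X U)) = 1 := by
      rw [QuotientGroup.eq_one_iff, Subgroup.mem_subgroupOf]
      exact hb
    rw [h3, orderOf_one] at ht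
    omega
  obtain ⟨j, hj⟩ := exists_pow_one h.aL.two hb2
  apply hbU
  refine h.two_B0 b.2 (n := j + 1) ?_
  rw [pow_succ', pow_mul]
  exact hj

/-- **The torus and the reflections exist.** -/
theorem exists_cx : ∃ H n k q m u, Cx L X U Q O n₀ H n k q m ∧ u ∈ U ∧ cj u A = H ⊓ L := by
  have t := h.nt
  obtain ⟨H, hH⟩ := t.exists_cpl
  have hodd : Odd (Nat.card H) := t.odd_cpl hH
  have hHU : H ≤ Subgroup.normalizer (U : Set G) := hH.HB.trans t.nU
  have hBUH : ∀ b ∈ B0 L X U, b ∈ U ⊔ H := by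
    intro b hb
    obtain ⟨u, hu, x, hx, rfl⟩ := t.exists_mul hH hb
    exact mul_mem (Subgroup.mem_sup_left hu) (Subgroup.mem_sup_right hx)
  have hbL : ∀ g ∈ L, cj g U = U → g ∈ U ⊔ H := fun g hg hgU =>
    hBUH g (Subgroup.mem_sup_left (Subgroup.mem_inf.mpr ⟨hg, mem_norm_iff.mpr hgU⟩))
  have hbX : ∀ g ∈ X, cj g U = U → g ∈ U ⊔ H := fun g hg hgU =>
    hBUH g (Subgroup.mem_sup_right (Subgroup.mem_inf.mpr ⟨hg, mem_norm_iff.mpr hgU⟩))
  obtain ⟨k, hk, n, -, PL, nU, nn, ⟨q, hq, e⟩, bor⟩ :=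
    PanOf.exists_pan h.aL hodd (hH.HB.trans h.B0_norm_L) hHU hbL
  obtain ⟨-, -, m, -, PX, -, mm, -, -⟩ :=
    PanOf.exists_pan h.aX hodd (hH.HB.trans h.B0_norm_X) hHU hbX
  have hAB : A ≤ B0 L X U := fun a ha =>
    Subgroup.mem_sup_left (Subgroup.mem_inf.mpr ⟨h.AL ha, h.AU ha⟩)
  obtain ⟨u, hu, huA⟩ := t.conj_le hH hAB h.Aodd
  have huA' : cj u A ≤ H := huA
  refine ⟨H, n, k, q, m, u, ⟨hH, PL, PX, nn, mm, hk, hq, e, nU, bor⟩, hu, ?_⟩
  have huAL : cj u A ≤ L := by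
    refine (cj_mono h.AL).trans ?_
    rw [cj_eq_of_mem (h.aL.UL hu)]
  refine le_antisymm (le_inf huA' huAL) fun x hx => ?_
  obtain ⟨hxH, hxL⟩ := Subgroup.mem_inf.mp hx
  have hx1 : u⁻¹ * x * u ∈ U ⊔ A := by
    refine h.AB _ (mul_mem (mul_mem (inv_mem (h.aL.UL hu)) hxL) (h.aL.UL hu)) ?_
    rw [cj_mul, cj_mul, cj_eq_of_mem hu, mem_norm_iff.mp (hHU hxH), cj_eq_of_mem (inv_mem hu)]
  rw [sup_comm] at hx1
  obtain ⟨a, ha, v, hv, e2⟩ := mem_sup_norm h.AU hx1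
  have e3 : x = (u * a * u⁻¹) * (u * v * u⁻¹) := by
    calc x = u * (u⁻¹ * x * u) * u⁻¹ := by group
      _ = (u * a * u⁻¹) * (u * v * u⁻¹) := by rw [e2]; group
  have ha' : u * a * u⁻¹ ∈ cj u A := conj_mem_cj ha
  have h1 : u * v * u⁻¹ ∈ H := by
    have : u * v * u⁻¹ = (u * a * u⁻¹)⁻¹ * x := by rw [e3]; group
    rw [this]
    exact mul_mem (inv_mem (huA' ha')) hxH
  have h2 : u * v * u⁻¹ = 1 :=
    eq_one_of_odd_two hodd h.aL.two h1 (mul_mem (mul_mem hu hv) (inv_mem hu))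
  rw [e3, h2, mul_one]
  exact ha'

end B0

section root

variable [Finite G] (h : QIn S L X U Q O V R A n₀ m₀ z₀ w) {H : Subgroup G} {n k q m u : G}
  (c : Cx L X U Q O n₀ H n k q m) (hu : u ∈ U) (uA : cj u A = H ⊓ L)
include h c hu uA

theorem Hodd : Odd (Nat.card H) := by
  have _ := uA
  have _ := hu
  exact h.nt.odd_cpl c.cpl

theorem H_U : H ≤ Subgroup.normalizer (U : Set G) := by
  have _ := uA
  have _ := hu
  exact c.cpl.HB.trans h.nt.nU

theorem Qmax {N : Subgroup G} (hN : N ≤ L) (h2 : IsPGroup 2 N)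
    (hn : ∀ l ∈ L, ∀ x ∈ N, l * x * l⁻¹ ∈ N) : N ≤ Q := by
  have _ := uA
  have _ := hu
  have hUN : U ≤ Subgroup.normalizer (N : Set G) := fun x hx =>
    Central.mem_norm_of fun y hy => hn x (h.aL.UL hx) y hy
  have h1 : IsPGroup 2 ((U ⊔ N : Subgroup G)) := IsPGroup.to_sup_of_normal_right' h.aL.two h2 hUN
  have h3 : N ≤ U := le_sup_right.trans (h.sL _ (sup_le h.aL.UL hN) h1 le_sup_left)
  intro x hx
  refine c.PL.inter (Subgroup.mem_inf.mpr ⟨h3 hx, ?_⟩)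
  rw [mem_cj]
  refine h3 ?_
  have := hn n⁻¹ (inv_mem c.PL.nL) x hx
  rwa [inv_inv] at this

/-- **The central root group.** -/
theorem cr : Central.CRoot S L Q R (H ⊓ L) z₀ (u * w * u⁻¹) := by
  have huL : u ∈ L := h.aL.UL hu
  have hA : ∀ a ∈ H ⊓ L, ∃ b ∈ A, a = u * b * u⁻¹ := by
    intro a ha
    rw [← uA, mem_cj] at ha
    exact ⟨_, ha, by group⟩
  refine
    { SL := h.SL
      QL := h.QU.trans h.aL.UL
      Q2 := h.aL.two.to_le h.QU
      Qn := fun l hl x hx => conj_mem (h.aL.LQ hl) hx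
      Qmax := fun N hN h2 hn => h.Qmax c hu uA hN h2 hn
      ZL := h.LR
      comm := h.comm
      sq := h.sq
      irr := h.irr
      z₀Z := h.z₀R
      z₀1 := h.z₀1
      z₀S := h.z₀S
      c2 := h.c2
      tr := h.tr
      Aab := ?_
      Aodd := ?_
      AZ := fun a ha z hz => h.LR a (Subgroup.mem_inf.mp ha).2 z hz
      AQ := fun a ha x hx => conj_mem (h.aL.LQ (Subgroup.mem_inf.mp ha).2) hx
      AL := fun a ha x hx => mul_mem (mul_mem (Subgroup.mem_inf.mp ha).2 hx)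
        (inv_mem (Subgroup.mem_inf.mp ha).2)
      AS := ?_
      cent := ?_
      wQ := conj_mem (h.aL.LQ huL) h.wQ
      cyc := ?_ }
  · intro a ha b hb
    obtain ⟨a', ha', rfl⟩ := hA a ha
    obtain ⟨b', hb', rfl⟩ := hA b hb
    calc u * a' * u⁻¹ * (u * b' * u⁻¹) = u * (a' * b') * u⁻¹ := by group
      _ = u * (b' * a') * u⁻¹ := by rw [h.Aab a' ha' b' hb']
      _ = _ := by group
  · rw [← uA, card_cj]; exact h.Aodd
  · intro a ha s hs
    have haL := (Subgroup.mem_inf.mp ha).2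
    have e : a * s * a⁻¹ * s⁻¹ = a * (s * a⁻¹ * s⁻¹) := by group
    rw [e]
    exact mul_mem haL (h.SL s hs _ (inv_mem haL))
  · intro s hs hc
    have huS : u ∈ S := h.US hu
    have h1 : u⁻¹ * s * u ∈ R := by
      refine h.cent _ (mul_mem (mul_mem (inv_mem huS) hs) huS) fun a ha => ?_
      have h2 := hc (u * a * u⁻¹) (by rw [← uA]; exact conj_mem_cj ha)
      calc a * (u⁻¹ * s * u) = u⁻¹ * ((u * a * u⁻¹) * s) * u := by group
        _ = u⁻¹ * (s * (u * a * u⁻¹)) * u := by rw [h2]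
        _ = u⁻¹ * s * u * a := by group
    rw [← h.cj_L_R (inv_mem huL), mem_cj, inv_inv] at h1
    rwa [show u * (u⁻¹ * s * u) * u⁻¹ = s by group] at h1
  · have h1 := cj_mono (g := u) h.cyc
    rw [h.cj_L_Q huL, cj_sup, h.cj_L_R huL] at h1
    refine h1.trans (sup_le_sup_right ?_ _)
    rw [cj, MonoidHom.map_closure, Subgroup.closure_le]
    rintro _ ⟨_, ⟨a, ha, rfl⟩, rfl⟩
    refine Subgroup.subset_closure ⟨u * a * u⁻¹, by rw [← uA]; exact conj_mem_cj ha, ?_⟩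
    show u * (a * w * a⁻¹) * u⁻¹ = _
    group

/-- `R` is a Sylow `2`-subgroup of `C_G(H ∩ L)`. -/
theorem syl {P : Subgroup G} (hP : IsPGroup 2 P) (hPA : ∀ v ∈ P, ∀ a ∈ H ⊓ L, v * a = a * v)
    (hRP : R ≤ P) : P ≤ R := by
  have cr := h.cr c hu uA
  have hP' : Nontrivial P :=
    ⟨⟨⟨z₀, hRP h.z₀R⟩, 1, fun e => h.z₀1 (congrArg Subtype.val e)⟩⟩
  have : Fact (Nat.Prime 2) := ⟨Nat.prime_two⟩
  haveI := hP.center_nontrivial
  obtain ⟨⟨x, hx⟩, hx1⟩ := exists_ne (1 : Subgroup.center P)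
  have hx1' : (x : G) ≠ 1 := fun e => hx1 (Subtype.ext (Subtype.ext e))
  have hxc : ∀ y ∈ P, y * (x : G) = x * y := by
    intro y hy
    have := Subgroup.mem_center_iff.1 hx ⟨y, hy⟩
    exact congrArg Subtype.val this
  obtain ⟨j, hj⟩ := exists_pow_one hP x.2
  have hxR : (x : G) ∈ R := cr.mem_Z h.z₀R h.z₀1 (hxc z₀ (hRP h.z₀R)).symm
    (fun a ha => hPA x x.2 a ha) hj
  intro y hy
  obtain ⟨j, hj⟩ := exists_pow_one hP hy
  exact cr.mem_Z hxR hx1' (hxc y hy) (fun a ha => hPA y hy a ha) hj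

end root

end QIn

end Cfsg.Agent.RankTwoClose.QInput

end

section


/-!
# Quadrangles with a central parabolic: the end

`R1 = m R m⁻¹`, `R2 = n R1 n⁻¹`, `U2 = n U n⁻¹`: `K = ⟨R1, R2⟩` commutes with `m (H ∩ L) m⁻¹` and contains a
reflection; all fields of `Quad.QData`; `QIn.exists_split`.
-/

set_option autoImplicit false

universe u

namespace Cfsg.Agent.RankTwoClose.QInput

open Cfsg.Agent.Omega.RootLemma Cfsg.Agent.RankTwoClose.UFour

variable {G : Type u} [Group G]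

namespace QIn

variable {S : Sylow 2 G} {L X U Q O V R A : Subgroup G} {n₀ m₀ z₀ w : G}

section basic

variable [Finite G] (h : QIn S L X U Q O V R A n₀ m₀ z₀ w) {H : Subgroup G} {n k q m : G}
  (c : Cx L X U Q O n₀ H n k q m)
include h c

theorem R1_V : cj m R ≤ V := by
  have := cj_mono (g := m) h.RV
  rwa [h.cm_V c] at this

theorem R1_U : cj m R ≤ U := (h.R1_V c).trans h.VU

theorem R1_L : cj m R ≤ L := (h.R1_U c).trans h.aL.UL

theorem R1_Q : cj m R ⊓ Q = ⊥ := h.RQ m c.PX.nL c.PX.ne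

theorem R2_U2 : cj n (cj m R) ≤ cj n U := cj_mono (h.R1_U c)

theorem U2_L : cj n U ≤ L := by
  have := cj_mono (g := n) h.aL.UL
  rwa [cj_eq_of_mem c.PL.nL] at this

theorem R2_L : cj n (cj m R) ≤ L := (h.R2_U2 c).trans (h.U2_L c)

theorem R2_Q : cj n (cj m R) ⊓ Q = ⊥ := by
  have h1 : cj n (cj m R ⊓ Q) = cj n (cj m R) ⊓ Q := by rw [cj_inf, h.cn_Q c]
  rw [← h1, h.R1_Q c]
  exact Subgroup.map_bot _

theorem Q_U2 : Q ≤ cj n U := by
  have := cj_mono (g := n) h.QU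
  rwa [h.cn_Q c] at this

theorem U_U2 : U ⊓ cj n U ≤ Q := c.PL.inter

/-- `2`-elements normalising `U2` -/
theorem mem_U2 {x : G} (hx : x ∈ L) (hU : cj x (cj n U) = cj n U) {j : ℕ} (h2 : x ^ 2 ^ j = 1) :
    x ∈ cj n U := by
  rw [mem_cj]
  refine h.two_L (mul_mem (mul_mem (inv_mem c.PL.nL) hx) c.PL.nL) ?_ (n := j) ?_
  · rw [cj_mul, cj_mul, hU, cj_inv_cj]
  · have e : n⁻¹ * x * n = n⁻¹ * x * n⁻¹⁻¹ := by rw [inv_inv]
    rw [e, conj_pow, h2, mul_one, mul_inv_cancel]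

/-- an element of `R2` normalising `U` is trivial -/
theorem R2_one {x : G} (hx : x ∈ cj n (cj m R)) (hU : cj x U = U) : x = 1 := by
  have h2 : IsPGroup 2 (cj n U) := isPGroup_cj h.aL.two
  obtain ⟨j, hj⟩ := exists_pow_one h2 (h.R2_U2 c hx)
  have h3 := h.two_L (h.R2_L c hx) hU hj
  have h4 := h.U_U2 c (Subgroup.mem_inf.mpr ⟨h3, h.R2_U2 c hx⟩)
  have h5 : x ∈ cj n (cj m R) ⊓ Q := Subgroup.mem_inf.mpr ⟨hx, h4⟩
  rwa [h.R2_Q c, Subgroup.mem_bot] at h5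

/-- an element of `R1` normalising `U2` is trivial -/
theorem R1_one {x : G} (hx : x ∈ cj m R) (hU : cj x (cj n U) = cj n U) : x = 1 := by
  obtain ⟨j, hj⟩ := exists_pow_one h.aL.two (h.R1_U c hx)
  have h3 := h.mem_U2 c (h.R1_L c hx) hU hj
  have h4 := h.U_U2 c (Subgroup.mem_inf.mpr ⟨h.R1_U c hx, h3⟩)
  have h5 : x ∈ cj m R ⊓ Q := Subgroup.mem_inf.mpr ⟨hx, h4⟩
  rwa [h.R1_Q c, Subgroup.mem_bot] at h5

/-- The rulings, in terms of `R1`, `R2`. -/
theorem ruling1 {r : G} (hr : r ∈ cj m R) (hr1 : r ≠ 1) :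
    ∃ s ∈ cj n (cj m R), cj (r * s * r) (cj n U) = U := by
  have hkL : k ∈ L := h.aL.UL c.hk
  have hkV : k ∈ Subgroup.normalizer (V : Set G) := h.XV (h.aX.UL c.hk)
  have hrQ : r ∉ Q := fun hq => hr1 (by
    have : r ∈ cj m R ⊓ Q := Subgroup.mem_inf.mpr ⟨hr, hq⟩
    rwa [h.R1_Q c, Subgroup.mem_bot] at this)
  have hv : k⁻¹ * r * k ∈ V := conj_mem' hkV (h.R1_V c hr)
  have hvQ : k⁻¹ * r * k ∉ Q := by
    intro h1
    apply hrQ
    have := conj_mem (h.aL.LQ hkL) h1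
    rwa [show k * (k⁻¹ * r * k) * k⁻¹ = r by group] at this
  obtain ⟨y, hy, hy2⟩ := h.ruling _ hv hvQ
  -- `y' = k y k⁻¹`
  have h1 : cj k (cj n₀ V) = cj q (cj n V) := by
    have hV : cj k⁻¹ V = V := mem_norm_iff.mp (inv_mem hkV)
    calc cj k (cj n₀ V) = cj k (cj n₀ (cj k⁻¹ V)) := by rw [hV]
      _ = cj (k * n₀ * k⁻¹) V := by rw [cj_mul, cj_mul]
      _ = cj q (cj n V) := by rw [← c.e, cj_mul]
  have h2 : k * y * k⁻¹ ∈ cj q (cj n V) := by rw [← h1]; exact conj_mem_cj hy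
  rw [mem_cj, mem_cj] at h2
  have hR1Q : cj m R ≤ Subgroup.normalizer (Q : Set G) := (h.R1_L c).trans h.aL.LQ
  obtain ⟨a, ha, b, hb, e1⟩ := mem_sup_norm hR1Q (h.VR m c.PX.nL c.PX.ne h2)
  have hs : n * a * n⁻¹ ∈ cj n (cj m R) := conj_mem_cj ha
  have hx : n * b * n⁻¹ ∈ Q := conj_mem (h.aL.LQ c.PL.nL) hb
  have e2 : k * y * k⁻¹ = q * ((n * a * n⁻¹) * (n * b * n⁻¹)) * q⁻¹ := by
    calc k * y * k⁻¹ = q * n * (n⁻¹ * (q⁻¹ * (k * y * k⁻¹) * q) * n) * n⁻¹ * q⁻¹ := by group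
      _ = q * n * (a * b) * n⁻¹ * q⁻¹ := by rw [e1]
      _ = _ := by group
  have hQn : ∀ l ∈ L, ∀ x ∈ Q, l⁻¹ * x * l ∈ Q := fun l hl x hx => conj_mem' (h.aL.LQ hl) hx
  refine ⟨n * a * n⁻¹, hs, ?_⟩
  -- the correction
  set s := n * a * n⁻¹ with hs'
  set x := n * b * n⁻¹ with hx'
  have hsL := h.R2_L c hs
  have hrL := h.R1_L c hr
  have ht : (r * s * r)⁻¹ * (r * (k * y * k⁻¹) * r) ∈ Q := by
    rw [e2]
    have e3 : (r * s * r)⁻¹ * (r * (q * (s * x) * q⁻¹) * r) =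
        r⁻¹ * ((s⁻¹ * q * s) * x * q⁻¹) * r := by group
    rw [e3]
    exact hQn r hrL _ (mul_mem (mul_mem (hQn s hsL q c.hq) hx) (inv_mem c.hq))
  have h3 : cj (r * (k * y * k⁻¹) * r) (cj n U) = U := by
    rw [c.nU, ← cj_mul]
    have e4 : r * (k * y * k⁻¹) * r * k = k * ((k⁻¹ * r * k) * y * (k⁻¹ * r * k)) := by group
    rw [e4, cj_mul, hy2, cj_eq_of_mem c.hk]
  have h4 : cj ((r * s * r)⁻¹ * (r * (k * y * k⁻¹) * r)) (cj n U) = cj n U :=
    cj_eq_of_mem (h.Q_U2 c ht)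
  calc cj (r * s * r) (cj n U)
      = cj (r * s * r) (cj ((r * s * r)⁻¹ * (r * (k * y * k⁻¹) * r)) (cj n U)) := by rw [h4]
    _ = cj (r * (k * y * k⁻¹) * r) (cj n U) := by rw [← cj_mul, mul_inv_cancel_left]
    _ = U := h3

/-- The bijection `R1 → R2`. -/
theorem exists_bij : ∃ g : ↥(cj m R) → ↥(cj n (cj m R)), Function.Bijective g ∧
    ∀ r : ↥(cj m R), (r : G) ≠ 1 → cj ((r : G) * g r * r) (cj n U) = U := by
  classical
  choose f hf hf2 using fun (r : G) (hr : r ∈ cj m R) (hr1 : r ≠ 1) => h.ruling1 c hr hr1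
  let g : ↥(cj m R) → ↥(cj n (cj m R)) := fun r =>
    if hr : (r : G) = 1 then 1 else ⟨f r r.2 hr, hf r r.2 hr⟩
  have hg : ∀ r : ↥(cj m R), (r : G) ≠ 1 → cj ((r : G) * g r * r) (cj n U) = U := by
    intro r hr
    have : (g r : G) = f r r.2 hr := by simp only [g, dif_neg hr]
    rw [this]
    exact hf2 r r.2 hr
  have hg' : ∀ r : ↥(cj m R), (r : G) ≠ 1 → cj (r : G) (cj n U) = cj (g r : G)⁻¹ U := by
    intro r hr
    have h1 := hg r hr
    have h2 : cj ((r : G) * g r)⁻¹ (cj ((r : G) * g r) (cj r (cj n U))) = cj ((r : G) * g r)⁻¹ U := by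
      rw [← cj_mul ((r : G) * g r), h1]
    rw [cj_inv_cj] at h2
    rw [h2, mul_inv_rev, cj_mul, cj_eq_of_mem (inv_mem (h.R1_U c r.2))]
  have hg1 : ∀ r : ↥(cj m R), (r : G) ≠ 1 → g r ≠ 1 := by
    intro r hr h1
    have h2 := hg' r hr
    rw [h1] at h2
    apply hr
    apply h.R1_one c r.2
    exfalso
    apply c.PL.ne
    have h3 : cj (r : G) (cj n U) = U := by rw [h2]; simp
    have h4 := congrArg (cj (r : G)⁻¹) h3
    rwa [cj_inv_cj, cj_eq_of_mem (inv_mem (h.R1_U c r.2))] at h4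
  have hinj : Function.Injective g := by
    intro r r' hrr
    by_cases hr : (r : G) = 1
    · by_cases hr' : (r' : G) = 1
      · exact Subtype.ext (hr.trans hr'.symm)
      · exfalso
        apply hg1 r' hr'
        rw [← hrr]
        simp only [g, dif_pos hr]
    · by_cases hr' : (r' : G) = 1
      · exfalso
        apply hg1 r hr
        rw [hrr]
        simp only [g, dif_pos hr']
      · have h1 := hg' r hr
        rw [hrr, ← hg' r' hr'] at h1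
        have h2 : cj ((r' : G)⁻¹ * r) (cj n U) = cj n U := by
          rw [cj_mul, h1, cj_inv_cj]
        have h3 := h.R1_one c (mul_mem (inv_mem r'.2) r.2) h2
        exact Subtype.ext (inv_mul_eq_one.mp h3).symm
  refine ⟨g, ?_, hg⟩
  rw [Nat.bijective_iff_injective_and_card]
  exact ⟨hinj, (card_cj n _).symm⟩

/-- An element which normalises `U`, `U2`, `R2` and commutes with `R1` commutes with `R2`. -/
theorem comm_of {d : G} (hU : cj d U = U) (hU2 : cj d (cj n U) = cj n U)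
    (h1 : ∀ r ∈ cj m R, d * r = r * d) (h2 : ∀ s ∈ cj n (cj m R), d * s * d⁻¹ ∈ cj n (cj m R)) :
    ∀ s ∈ cj n (cj m R), d * s = s * d := by
  obtain ⟨g, hg, hg2⟩ := h.exists_bij c
  intro s hs
  by_cases hs1 : s = 1
  · rw [hs1, mul_one, one_mul]
  obtain ⟨r, hr⟩ := hg.2 ⟨s, hs⟩
  by_cases hr1 : (r : G) = 1
  · -- some `r' ≠ 1` has `g r' = 1`?  use injectivity: `g` is a bijection, so compare with `g⁻¹ 1`
    obtain ⟨r0, hr0⟩ := hg.2 1
    by_cases hr01 : (r0 : G) = 1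
    · exfalso
      apply hs1
      have e : r = r0 := Subtype.ext (hr1.trans hr01.symm)
      rw [e, hr0] at hr
      exact (congrArg Subtype.val hr).symm
    · exfalso
      have h3 := hg2 r0 hr01
      rw [hr0] at h3
      apply c.PL.ne
      have h4 : cj ((r0 : G) * (1 : ↥(cj n (cj m R))) * r0)⁻¹ (cj ((r0 : G) *
        (1 : ↥(cj n (cj m R))) * r0) (cj n U)) = cj ((r0 : G) * (1 : ↥(cj n (cj m R))) * r0)⁻¹ U := by
        rw [h3]
      rw [cj_inv_cj] at h4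
      rw [h4]
      apply cj_eq_of_mem
      apply inv_mem
      rw [Subgroup.coe_one, mul_one]
      exact mul_mem (h.R1_U c r0.2) (h.R1_U c r0.2)
  · have h3 := hg2 r hr1
    rw [hr] at h3
    have h3' : cj ((r : G) * s * r) (cj n U) = U := h3
    have h4 : cj (r : G) (cj n U) = cj s⁻¹ U := by
      have h5 : cj ((r : G) * s)⁻¹ (cj ((r : G) * s) (cj r (cj n U))) = cj ((r : G) * s)⁻¹ U := by
        rw [← cj_mul ((r : G) * s), h3']
      rw [cj_inv_cj] at h5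
      rw [h5, mul_inv_rev, cj_mul, cj_eq_of_mem (inv_mem (h.R1_U c r.2))]
    have h5 : cj d (cj s⁻¹ U) = cj s⁻¹ U := by
      rw [← h4, ← cj_mul, h1 r r.2, cj_mul, hU2]
    have hU' : cj d⁻¹ U = U := mem_norm_iff.mp (inv_mem (mem_norm_iff.mpr hU))
    have h6 : cj (s * (d * s⁻¹ * d⁻¹)) U = U := by
      rw [cj_mul, cj_mul, hU', cj_mul, h5, cj_cj_inv]
    have h7 := h.R2_one c (mul_mem hs (h2 _ (inv_mem hs))) h6
    have h8 : s * d * s⁻¹ * d⁻¹ = 1 := by rw [← h7]; group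
    have h9 : s * d = 1 * (d * s) := by rw [← h8]; group
    rw [h9, one_mul]

end basic

section fin

variable [Finite G] (h : QIn S L X U Q O V R A n₀ m₀ z₀ w) {H : Subgroup G} {n k q m u : G}
  (c : Cx L X U Q O n₀ H n k q m) (hu : u ∈ U) (uA : cj u A = H ⊓ L)
include h c hu uA

theorem H_L : H ≤ Subgroup.normalizer (L : Set G) := by
  have _ := uA
  have _ := hu
  exact c.cpl.HB.trans h.B0_norm_L

theorem H_V : H ≤ Subgroup.normalizer (V : Set G) := by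
  have _ := uA
  have _ := hu
  exact c.cpl.HB.trans h.B0_norm_V

theorem cH_U {a : G} (ha : a ∈ H) : cj a U = U := mem_norm_iff.mp (h.H_U c hu uA ha)

theorem cH_U2 {a : G} (ha : a ∈ H) : cj a (cj n U) = cj n U := by
  have h1 : n⁻¹ * a * n ∈ H := conj_mem' (mem_norm_iff.mpr c.PL.nH) ha
  have e : a * n = n * (n⁻¹ * a * n) := by group
  rw [← cj_mul, e, cj_mul, h.cH_U c hu uA h1]

theorem cH_R {a : G} (ha : a ∈ H) : cj a R = R := by
  have _ := uA
  have _ := hu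
  have h1 : cj a Q = Q := mem_norm_iff.mp (c.PL.HX ha)
  rw [← h.comm, cj_comm, h1]

theorem cH_R1 {a : G} (ha : a ∈ H) : cj a (cj m R) = cj m R := by
  have h1 : m⁻¹ * a * m ∈ H := conj_mem' (mem_norm_iff.mpr c.PX.nH) ha
  have e : a * m = m * (m⁻¹ * a * m) := by group
  rw [← cj_mul, e, cj_mul, h.cH_R c hu uA h1]

theorem cH_R2 {a : G} (ha : a ∈ H) : cj a (cj n (cj m R)) = cj n (cj m R) := by
  have h1 : n⁻¹ * a * n ∈ H := conj_mem' (mem_norm_iff.mpr c.PL.nH) ha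
  have e : a * n = n * (n⁻¹ * a * n) := by group
  rw [← cj_mul, e, cj_mul, h.cH_R1 c hu uA h1]

/-- `m (H ∩ L) m⁻¹` commutes with `R1` and `R2` -/
theorem d_R1 {a : G} (ha : a ∈ H ⊓ L) : ∀ r ∈ cj m R, (m * a * m⁻¹) * r = r * (m * a * m⁻¹) := by
  have _ := uA
  have _ := hu
  have _ := c.mm
  intro r hr
  rw [mem_cj] at hr
  have h1 := h.LR a (Subgroup.mem_inf.mp ha).2 _ hr
  calc (m * a * m⁻¹) * r = m * (a * (m⁻¹ * r * m)) * m⁻¹ := by group
    _ = m * ((m⁻¹ * r * m) * a) * m⁻¹ := by rw [h1]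
    _ = r * (m * a * m⁻¹) := by group

theorem d_R2 {a : G} (ha : a ∈ H ⊓ L) :
    ∀ s ∈ cj n (cj m R), (m * a * m⁻¹) * s = s * (m * a * m⁻¹) := by
  have h1 : m * a * m⁻¹ ∈ H :=
    conj_mem (mem_norm_iff.mpr c.PX.nH) (Subgroup.mem_inf.mp ha).1
  refine h.comm_of c (h.cH_U c hu uA h1) (h.cH_U2 c hu uA h1) (h.d_R1 c hu uA ha) fun s hs => ?_
  rw [← h.cH_R2 c hu uA h1]
  exact conj_mem_cj hs

/-- `K = ⟨R1, R2⟩` commutes with `m (H ∩ L) m⁻¹` -/
theorem d_K {a : G} (ha : a ∈ H ⊓ L) {x : G} (hx : x ∈ cj m R ⊔ cj n (cj m R)) :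
    (m * a * m⁻¹) * x = x * (m * a * m⁻¹) := by
  have h1 : cj m R ⊔ cj n (cj m R) ≤ Subgroup.centralizer {m * a * m⁻¹} := by
    refine sup_le (fun r hr => ?_) (fun s hs => ?_)
    · rw [Subgroup.mem_centralizer_singleton_iff]
      exact (h.d_R1 c hu uA ha r hr).symm
    · rw [Subgroup.mem_centralizer_singleton_iff]
      exact (h.d_R2 c hu uA ha s hs).symm
  exact (Subgroup.mem_centralizer_singleton_iff.mp (h1 hx)).symm

/-- `K ∩ U = R1` -/
theorem K_U : (cj m R ⊔ cj n (cj m R)) ⊓ U = cj m R := by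
  refine le_antisymm ?_ (le_inf le_sup_left (h.R1_U c))
  have h1 : cj m⁻¹ ((cj m R ⊔ cj n (cj m R)) ⊓ U) ≤ R := by
    refine h.syl c hu uA (isPGroup_cj (h.aL.two.to_le inf_le_right)) ?_ ?_
    · intro v hv a ha
      rw [mem_cj, inv_inv] at hv
      have h2 := h.d_K c hu uA ha (Subgroup.mem_inf.mp hv).1
      calc v * a = m⁻¹ * ((m * v * m⁻¹) * (m * a * m⁻¹)) * m := by group
        _ = m⁻¹ * ((m * a * m⁻¹) * (m * v * m⁻¹)) * m := by rw [h2]
        _ = a * v := by group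
    · have h2 := cj_mono (g := m⁻¹) (le_inf le_sup_left (h.R1_U c) :
        cj m R ≤ (cj m R ⊔ cj n (cj m R)) ⊓ U)
      rwa [cj_inv_cj] at h2
  have h2 := cj_mono (g := m) h1
  rwa [cj_cj_inv] at h2

/-- The reflection in `K`. -/
theorem exists_l : ∃ l ∈ cj m R ⊔ cj n (cj m R), cj l U = cj n U ∧ cj l (cj n U) = U := by
  have _ := uA
  have _ := hu
  obtain ⟨g, hg, hg2⟩ := h.exists_bij c
  have key : ∀ r : ↥(cj m R), (r : G) ≠ 1 → cj (r : G) (cj n U) = cj (g r : G)⁻¹ U := by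
    intro r hr
    have h1 := hg2 r hr
    have h2 : cj ((r : G) * g r)⁻¹ (cj ((r : G) * g r) (cj r (cj n U))) = cj ((r : G) * g r)⁻¹ U := by
      rw [← cj_mul ((r : G) * g r), h1]
    rw [cj_inv_cj] at h2
    rw [h2, mul_inv_rev, cj_mul, cj_eq_of_mem (inv_mem (h.R1_U c r.2))]
  -- `r ≠ 1`
  obtain ⟨z, hz, -, -, hz1, -, -⟩ := h.pair
  have hr1 : m * z * m⁻¹ ≠ 1 := by
    intro e
    apply hz1
    calc z = m⁻¹ * (m * z * m⁻¹) * m := by group
      _ = 1 := by rw [e]; group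
  let r : ↥(cj m R) := ⟨m * z * m⁻¹, conj_mem_cj hz⟩
  have hr1' : (r : G) ≠ 1 := hr1
  obtain ⟨ρ, hρ⟩ := hg.2 (g r)⁻¹
  have hρ1 : (ρ : G) ≠ 1 := by
    intro e
    -- `g` is injective and `g r' = 1` for some `r'`
    have hne : ∀ r' : ↥(cj m R), (r' : G) ≠ 1 → g r' ≠ 1 := by
      intro r' hr' h1
      have h2 := hg2 r' hr'
      rw [h1] at h2
      apply c.PL.ne
      have h4 : cj ((r' : G) * (1 : ↥(cj n (cj m R))) * r')⁻¹ (cj ((r' : G) *
        (1 : ↥(cj n (cj m R))) * r') (cj n U)) = cj ((r' : G) * (1 : ↥(cj n (cj m R))) * r')⁻¹ U := by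
        rw [h2]
      rw [cj_inv_cj] at h4
      rw [h4]
      apply cj_eq_of_mem
      apply inv_mem
      rw [Subgroup.coe_one, mul_one]
      exact mul_mem (h.R1_U c r'.2) (h.R1_U c r'.2)
    obtain ⟨r0, hr0⟩ := hg.2 1
    have hr01 : (r0 : G) = 1 := by
      by_contra hcon
      exact hne r0 hcon hr0
    have e2 : ρ = r0 := Subtype.ext (e.trans hr01.symm)
    rw [e2, hr0] at hρ
    exact hne r hr1' (by rw [← inv_inv (g r), ← hρ, inv_one])
  have h1 := key ρ hρ1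
  rw [hρ] at h1
  have h1' : cj (ρ : G) (cj n U) = cj (g r : G) U := by
    rw [h1]; congr 1; simp
  refine ⟨(ρ : G)⁻¹ * g r * r, mul_mem (mul_mem (Subgroup.mem_sup_left (inv_mem ρ.2))
    (Subgroup.mem_sup_right (g r).2)) (Subgroup.mem_sup_left r.2), ?_, ?_⟩
  · rw [cj_mul, cj_eq_of_mem (h.R1_U c r.2), cj_mul, ← h1', cj_inv_cj]
  · have h2 := hg2 r hr1'
    have h3 : cj ((g r : G) * r) (cj n U) = cj (r : G)⁻¹ U := by
      have h4 : cj (r : G)⁻¹ (cj r (cj ((g r : G) * r) (cj n U))) = cj (r : G)⁻¹ U := by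
        rw [← cj_mul (r : G), ← mul_assoc, h2]
      rwa [cj_inv_cj] at h4
    rw [mul_assoc, cj_mul, h3, cj_eq_of_mem (inv_mem (h.R1_U c r.2)),
      cj_eq_of_mem (inv_mem (h.R1_U c ρ.2))]

/-- `K ∩ U2 = R2` -/
theorem K_U2 : (cj m R ⊔ cj n (cj m R)) ⊓ cj n U = cj n (cj m R) := by
  obtain ⟨l, hl, h1, h2⟩ := h.exists_l c hu uA
  refine (Subgroup.eq_of_le_of_card_ge (le_inf le_sup_right (h.R2_U2 c)) ?_).symm
  have h3 : cj l ((cj m R ⊔ cj n (cj m R)) ⊓ U) = (cj m R ⊔ cj n (cj m R)) ⊓ cj n U := by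
    rw [cj_inf, h1, cj_eq_of_mem hl]
  rw [← h3, h.K_U c hu uA, card_cj, card_cj, card_cj, card_cj]

theorem K_L : cj m R ⊔ cj n (cj m R) ≤ L := by
  have _ := uA
  have _ := hu
  exact sup_le (h.R1_L c) (h.R2_L c)

theorem cH_K {a : G} (ha : a ∈ H) : cj a (cj m R ⊔ cj n (cj m R)) = cj m R ⊔ cj n (cj m R) := by
  rw [cj_sup, h.cH_R1 c hu uA ha, h.cH_R2 c hu uA ha]

/-- the elements of `K` normalising `U` and `U2` lie in `H` -/
theorem T_H {t : G} (ht : t ∈ cj m R ⊔ cj n (cj m R)) (h1 : cj t U = U)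
    (h2 : cj t (cj n U) = cj n U) : t ∈ H := by
  set T : Subgroup G := (cj m R ⊔ cj n (cj m R)) ⊓ (Subgroup.normalizer (U : Set G) ⊓
    Subgroup.normalizer ((cj n U : Subgroup G) : Set G)) with hT
  have hTK : T ≤ cj m R ⊔ cj n (cj m R) := inf_le_left
  have hTU : T ≤ Subgroup.normalizer (U : Set G) := inf_le_right.trans inf_le_left
  have hTU2 : T ≤ Subgroup.normalizer ((cj n U : Subgroup G) : Set G) :=
    inf_le_right.trans inf_le_right
  have htT : t ∈ T := Subgroup.mem_inf.mpr ⟨ht, Subgroup.mem_inf.mpr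
    ⟨mem_norm_iff.mpr h1, mem_norm_iff.mpr h2⟩⟩
  -- `2`-elements of `T`
  have hT2 : ∀ y ∈ T, y * y = 1 → y = 1 := by
    intro y hy hyy
    have hyL := h.K_L c hu uA (hTK hy)
    have e : y ^ 2 ^ 1 = 1 := by rw [pow_one, pow_two, hyy]
    have h3 := h.two_L hyL (mem_norm_iff.mp (hTU hy)) e
    have h4 := h.mem_U2 c hyL (mem_norm_iff.mp (hTU2 hy)) e
    have h5 : y ∈ (cj m R ⊔ cj n (cj m R)) ⊓ U := Subgroup.mem_inf.mpr ⟨hTK hy, h3⟩
    rw [h.K_U c hu uA] at h5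
    have h6 : y ∈ cj m R ⊓ Q := Subgroup.mem_inf.mpr
      ⟨h5, h.U_U2 c (Subgroup.mem_inf.mpr ⟨h3, h4⟩)⟩
    rwa [h.R1_Q c, Subgroup.mem_bot] at h6
  -- `H` normalises `T`
  have hHT : H ≤ Subgroup.normalizer (T : Set G) := by
    intro a ha
    rw [mem_norm_iff, hT, cj_inf, cj_inf, h.cH_K c hu uA ha]
    have e1 : cj a (Subgroup.normalizer (U : Set G)) = Subgroup.normalizer (U : Set G) :=
      cj_eq_of_mem (h.H_U c hu uA ha)
    have e2 : cj a (Subgroup.normalizer ((cj n U : Subgroup G) : Set G)) =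
        Subgroup.normalizer ((cj n U : Subgroup G) : Set G) :=
      cj_eq_of_mem (mem_norm_iff.mpr (h.cH_U2 c hu uA ha))
    rw [e1, e2]
  have hodd := h.Hodd c hu uA
  -- `H T` has odd order
  have hHTodd : Odd (Nat.card ↥(H ⊔ T)) := by
    by_contra hcon
    rw [Nat.not_odd_iff_even, even_iff_two_dvd] at hcon
    have : Fact (Nat.Prime 2) := ⟨Nat.prime_two⟩
    obtain ⟨⟨y, hy⟩, hyo⟩ := exists_prime_orderOf_dvd_card' 2 hcon
    rw [Subgroup.orderOf_mk] at hyo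
    have hyy : y * y = 1 := by
      have := pow_orderOf_eq_one y
      rwa [hyo, pow_two] at this
    have hy1 : y ≠ 1 := fun e => by rw [e, orderOf_one] at hyo; omega
    apply hy1
    refine hT2 y ?_ hyy
    obtain ⟨a, ha, x, hx, rfl⟩ := mem_sup_norm hHT hy
    -- `a² ∈ T`
    have h3 : a * a ∈ T := by
      have h4 : (a * a) * ((a⁻¹ * x * a) * x) = 1 := by rw [← hyy]; group
      rw [eq_inv_of_mul_eq_one_left h4]
      exact inv_mem (mul_mem (conj_mem' (hHT ha) hx) hx)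
    have h5 : a ∈ T := by
      obtain ⟨j, hj⟩ := hodd
      have h6 : a ^ Nat.card H = 1 := by
        have := pow_card_eq_one' (x := (⟨a, ha⟩ : H))
        exact congrArg Subtype.val this
      have h7 : a = ((a * a) ^ j)⁻¹ := by
        rw [hj, pow_succ, pow_mul, pow_two] at h6
        exact eq_inv_of_mul_eq_one_right h6
      rw [h7]
      exact inv_mem (pow_mem h3 j)
    exact mul_mem h5 hx
  have hB : H ⊔ T ≤ B0 L X U := by
    refine sup_le c.cpl.HB fun y hy => Subgroup.mem_sup_left (Subgroup.mem_inf.mpr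
      ⟨h.K_L c hu uA (hTK hy), hTU hy⟩)
  exact h.nt.le_of_le c.cpl hB le_sup_left hHTodd (Subgroup.mem_sup_right htT)

/-- `refl` -/
theorem refl : ∃ l ∈ cj m R ⊔ cj n (cj m R), n⁻¹ * l ∈ H := by
  obtain ⟨l, hl, h1, h2⟩ := h.exists_l c hu uA
  refine ⟨l, hl, ?_⟩
  have hl1 : cj l⁻¹ U = cj n U := by
    have := congrArg (cj l⁻¹) h2
    rw [cj_inv_cj] at this
    exact this.symm
  have hl2 : cj l⁻¹ (cj n U) = U := by rw [← h1, cj_inv_cj]
  have hlL := h.K_L c hu uA hl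
  -- `l` normalises `H`
  have hlH : ∀ a ∈ H, l * a * l⁻¹ ∈ H := by
    intro a ha
    have hK : a * l⁻¹ * a⁻¹ ∈ cj m R ⊔ cj n (cj m R) := by
      have h3 : a * l⁻¹ * a⁻¹ ∈ cj a (cj m R ⊔ cj n (cj m R)) := conj_mem_cj (inv_mem hl)
      rwa [h.cH_K c hu uA ha] at h3
    have hai := h.cH_U c hu uA (inv_mem ha)
    have hai2 := h.cH_U2 c hu uA (inv_mem ha)
    have h3 : l * (a * l⁻¹ * a⁻¹) ∈ H := by
      refine h.T_H c hu uA (mul_mem hl hK) ?_ ?_
      · rw [cj_mul, cj_mul, hai, cj_mul, hl1, h.cH_U2 c hu uA ha, h2]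
      · rw [cj_mul, cj_mul, hai2, cj_mul, hl2, h.cH_U c hu uA ha, h1]
    have e : l * a * l⁻¹ = l * (a * l⁻¹ * a⁻¹) * a := by group
    rw [e]
    exact mul_mem h3 ha
  have hlN : l ∈ Subgroup.normalizer (H : Set G) := Central.mem_norm_of hlH
  have hnN : n ∈ Subgroup.normalizer (H : Set G) := mem_norm_iff.mpr c.PL.nH
  have hn1 : cj n⁻¹ (cj n U) = U := cj_inv_cj _ _
  have hn2 : cj n⁻¹ U = cj n U := by
    have := congrArg (cj n⁻¹) c.nn
    rw [cj_inv_cj] at this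
    exact this.symm
  have h3 : n⁻¹ * l ∈ Q ⊔ (H ⊓ L) := by
    refine c.bor _ (mul_mem (inv_mem c.PL.nL) hlL) ?_ ?_
    · rw [cj_mul, h1, hn1]
    · rw [cj_mul, h2, hn2]
  have hHQ : H ⊓ L ≤ Subgroup.normalizer (Q : Set G) := inf_le_left.trans c.PL.HX
  rw [sup_comm] at h3
  obtain ⟨a, ha, x, hx, e⟩ := mem_sup_norm hHQ h3
  have haH := (Subgroup.mem_inf.mp ha).1
  have hxN : x ∈ Subgroup.normalizer (H : Set G) := by
    have : x = a⁻¹ * (n⁻¹ * l) := by rw [e]; group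
    rw [this]
    exact mul_mem (inv_mem (Subgroup.le_normalizer haH)) (mul_mem (inv_mem hnN) hlN)
  have hQ2 : IsPGroup 2 Q := h.aL.two.to_le h.QU
  have hxc : ∀ b ∈ H, b * x = x * b := by
    intro b hb
    have h4 : x * b * x⁻¹ * b⁻¹ ∈ H := mul_mem (conj_mem hxN hb) (inv_mem hb)
    have h5 : x * b * x⁻¹ * b⁻¹ ∈ Q := by
      have e2 : x * b * x⁻¹ * b⁻¹ = x * (b * x⁻¹ * b⁻¹) := by group
      rw [e2]
      exact mul_mem hx (conj_mem (c.PL.HX hb) (inv_mem hx))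
    have h6 := eq_one_of_odd_two (h.Hodd c hu uA) hQ2 h4 h5
    have h7 : x * b = 1 * (b * x) := by rw [← h6]; group
    rw [h7, one_mul]
  have hxR : x ∈ R := (h.cr c hu uA).cent x (h.US (h.QU hx)) fun b hb =>
    hxc b (Subgroup.mem_inf.mp hb).1
  have hx1 : x = 1 := by
    refine h.fixR x hxR fun g hg hgU => ?_
    obtain ⟨v, hv, b, hb, rfl⟩ := h.nt.exists_mul c.cpl (b := g)
      (Subgroup.mem_sup_right (Subgroup.mem_inf.mpr ⟨hg, mem_norm_iff.mpr hgU⟩))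
    rw [mul_assoc, hxc b hb, ← mul_assoc, h.LR v (h.aL.UL hv) x hxR, mul_assoc]
  rw [e, hx1, mul_one]
  exact haH

end fin

section assembly

variable [Finite G] (h : QIn S L X U Q O V R A n₀ m₀ z₀ w)
include h

/-- **All the fields of `Quad.QData`.** -/
theorem exists_qdata : ∃ H A' n m w', H ≤ B0 L X U ∧
    Quad.QData S L X U Q O R (V ⊓ Q) (Q ⊓ Subgroup.centralizer (V : Set G)) H A' n m z₀ w' := by
  obtain ⟨H, n, k, q, m, u, c, hu, uA⟩ := h.exists_cx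
  refine ⟨H, H ⊓ L, n, m, u * w * u⁻¹, c.cpl.HB, ?_⟩
  have hUV : U ≤ Subgroup.normalizer (V : Set G) := h.aX.UL.trans h.XV
  refine
    { two := ⟨h.aL.two, h.Hodd c hu uA, h.H_U c hu uA, c.PL, c.PX, ?_⟩
      cr := h.cr c hu uA
      n1A := ?_
      n2A := ?_
      EU := h.R1_U c
      EQ1 := ?_
      comm := ?_
      refl := h.refl c hu uA
      pair := h.pair
      YQ1 := inf_le_right
      YQ2 := ?_
      DQ1 := inf_le_left
      DQ2 := h.D_O c
      YB := ?_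
      DB := ?_
      X4 := h.X4 c
      X1 := h.X1 c }
  · -- `n ∉ X H`
    intro hn
    have h1 : X ⊔ H ≤ Subgroup.normalizer (V : Set G) := sup_le h.XV (h.H_V c hu uA)
    have h2 : cj n V = V := mem_norm_iff.mp (h1 hn)
    obtain ⟨z, hz, -, -, hz1, -, -⟩ := h.pair
    apply hz1
    have h3 : n * (m * z * m⁻¹) * n⁻¹ ∈ cj n (cj m R) := conj_mem_cj (conj_mem_cj hz)
    have h4 : n * (m * z * m⁻¹) * n⁻¹ ∈ V := by
      rw [← h2]; exact conj_mem_cj (h.R1_V c (conj_mem_cj hz))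
    have h5 := h.R2_one c h3 (cj_eq_of_mem (h.VU h4))
    calc z = m⁻¹ * (n⁻¹ * (n * (m * z * m⁻¹) * n⁻¹) * n) * m := by group
      _ = 1 := by rw [h5]; group
  · intro a ha
    obtain ⟨h1, h2⟩ := Subgroup.mem_inf.mp ha
    exact Subgroup.mem_inf.mpr ⟨conj_mem' (mem_norm_iff.mpr c.PL.nH) h1,
      mul_mem (mul_mem (inv_mem c.PL.nL) h2) c.PL.nL⟩
  · intro a ha
    obtain ⟨h1, h2⟩ := Subgroup.mem_inf.mp ha
    have h3 : cj (m * m) L = L := h.XL _ (mul_mem c.PX.nL c.PX.nL) (by rw [cj_mul, c.mm])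
    have h4 : m * m ∈ Subgroup.normalizer (H : Set G) :=
      mul_mem (mem_norm_iff.mpr c.PX.nH) (mem_norm_iff.mpr c.PX.nH)
    exact Subgroup.mem_inf.mpr ⟨conj_mem' h4 h1, conj_mem' (mem_norm_iff.mpr h3) h2⟩
  · intro hle
    apply h.z₀1
    have h1 : m * z₀ * m⁻¹ ∈ cj m R ⊓ Q :=
      Subgroup.mem_inf.mpr ⟨conj_mem_cj h.z₀R, hle (conj_mem_cj h.z₀R)⟩
    rw [h.R1_Q c, Subgroup.mem_bot] at h1
    calc z₀ = m⁻¹ * (m * z₀ * m⁻¹) * m := by group
      _ = 1 := by rw [h1]; group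
  · intro a ha z hz
    exact (h.d_R2 c hu uA ha _ (conj_mem_cj (conj_mem_cj hz))).symm
  · intro x hx
    obtain ⟨h1, -⟩ := Subgroup.mem_inf.mp hx
    refine c.PX.inter (Subgroup.mem_inf.mpr ⟨h.VU h1, ?_⟩)
    rw [mem_cj]
    exact h.VU (conj_mem' (h.XV c.PX.nL) h1)
  · refine sup_le h.U_E fun a ha => norm_inf (h.H_V c hu uA ha) (c.PL.HX ha)
  · refine sup_le (h.U_D c) fun a ha => norm_inf (c.PL.HX ha)
      (h.centralizer_norm c (h.H_V c hu uA ha))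

/-- **The closing theorem.** `⟨L, X⟩` has a split `BN`-pair of rank two. -/
theorem exists_split (hB : Bender.{u}) : ∃ P : Cfsg.BNPair ↥(L ⊔ X), P.rank = 2 ∧ P.IsSplit := by
  obtain ⟨H, A', n, m, w', hHB, d⟩ := h.exists_qdata
  have hH : H ≤ L ⊔ X := hHB.trans (sup_le_sup inf_le_left inf_le_left)
  have hX : (L ⊔ H) ⊔ (X ⊔ H) = L ⊔ X := by
    refine le_antisymm (sup_le (sup_le le_sup_left hH) (sup_le le_sup_right hH)) ?_
    exact sup_le_sup le_sup_left le_sup_left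
  obtain ⟨P, h1, h2, -⟩ := d.exists_split hB hX
  exact ⟨P, h1, h2⟩

end assembly

end QIn

end Cfsg.Agent.RankTwoClose.QInput

end

end

-- merged: Cfsg.Agent.Mrg.RankTwoClose.UFive.LTor
section

section


/-!
# `U₅(q)`: the side `L` from THEOREM UNI, part 4: the torus `A`

* `mem_UU_of_e` : the stabiliser of `e₀` in `L` is `UU`;
* `TT` : the stabiliser of `F e₀`, `F f₀` in `L`; `exists_A` : a complement `A` of `Q` in `TT`;
* `Tor A` : the properties of `A`.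
-/

set_option autoImplicit false
set_option linter.unusedSectionVars false

open Subgroup

namespace Cfsg.Agent.RankTwoClose.UFive.LSide

open Cfsg.Agent.Omega.NOne.SU
open Cfsg.Agent.RankTwoClose.UFour (cj cj_mul cj_inv_cj cj_cj_inv cj_one mem_norm_iff cj_eq_of_mem)

/-- in a 2-group, a proper subgroup is properly contained in its normaliser -/
theorem exists_norm_of_lt {G : Type*} [Group G] [Finite G] {P U : Subgroup G} (hP : IsPGroup 2 P) (hU : U ≤ P)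
    (hne : ¬ P ≤ U) : ∃ x ∈ P, x ∉ U ∧ cj x U = U := by
  have : Fact (Nat.Prime 2) := ⟨Nat.prime_two⟩
  have hnil : Group.IsNilpotent P := hP.isNilpotent
  have hnc : NormalizerCondition P := Group.normalizerCondition_of_isNilpotent
  have hlt : U.subgroupOf P < ⊤ := by
    rw [lt_top_iff_ne_top]
    intro h
    exact hne (subgroupOf_eq_top.1 h)
  obtain ⟨x, hx, hxn⟩ := SetLike.exists_of_lt (hnc _ hlt)
  refine ⟨x, x.2, fun h => hxn (mem_subgroupOf.2 h), ?_⟩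
  rw [← mem_norm_iff, mem_normalizer_iff]
  intro u
  rw [mem_normalizer_iff] at hx
  constructor
  · intro hu
    exact (hx ⟨u, hU hu⟩).1 (mem_subgroupOf.2 hu)
  · intro hu
    have h1 : u ∈ P := by
      have h2 := mul_mem (mul_mem (inv_mem x.2) (hU hu)) x.2
      have e : (x : G)⁻¹ * (x * u * (x : G)⁻¹) * x = u := by group
      rwa [e] at h2
    exact (hx ⟨u, h1⟩).2 (mem_subgroupOf.2 hu)

variable {G : Type*} [Group G] {k F : Type*} [Field k] [Field F] [Algebra k F]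

/-- the stabiliser of the two points -/
def TT (V R Q Q' : Subgroup G) (n₀ : G) : Subgroup G :=
  LL V R Q Q' ⊓ (normalizer (UU V Q Q' : Set G) ⊓ normalizer (cj n₀ (UU V Q Q') : Set G))

theorem mem_TT {V R Q Q' : Subgroup G} {n₀ t : G} : t ∈ TT V R Q Q' n₀ ↔
    t ∈ LL V R Q Q' ∧ cj t (UU V Q Q') = UU V Q Q' ∧ cj t (cj n₀ (UU V Q Q')) = cj n₀ (UU V Q Q') := by
  rw [TT, mem_inf, mem_inf, mem_norm_iff, mem_norm_iff]

section

variable {T : Quad k F} {S : Sylow 2 G} {V R Q Q' : Subgroup G} {v : k → F → k → G} {p p' : G → F}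
    {Φ : Type*} [AddCommGroup Φ] [Module F Φ] {φ χ : G → Φ} {hm : Φ → Φ → F}
    {W : Type*} [AddCommGroup W] [Module F W] {w : G → W} {g : W → W → F} {f₀ : W}
    {ι : Φ →ₗ[F] W} (D : Out T V R Q Q' v p φ χ hm w g f₀ ι) (I : GIn T S V R Q Q' v p p')
    {x₀ : Φ} (hx : ∀ x : Φ, ∃ s : F, x = s • x₀) (hne : x₀ ≠ 0) {n₀ : G} (N : Sw D n₀)

include I hx N in
/-- an element of `L` which stabilises `F e₀` is `u t` with `t` diagonal -/
theorem exists_ut [CharP k 2] (Fd : Fld T V R Q Q' v p φ χ) {c : G} (hc : c ∈ LL V R Q Q') {a : F}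
    (ha : D.rho c (w (v 0 1 0)) = a • w (v 0 1 0)) : ∃ u ∈ UU V Q Q', ∃ b : F,
      D.rho (u⁻¹ * c) (w (v 0 1 0)) = a • w (v 0 1 0) ∧ D.rho (u⁻¹ * c) f₀ = b • f₀ := by
  have _ := N
  have hcN := LL_NR D I hc
  have hcL := LL_le_Lin D I hc
  have ha0 : a ≠ 0 := by
    rintro rfl
    rw [zero_smul] at ha
    apply D.e_ne
    rw [← D.rho_inv_left I hcN (w (v 0 1 0)), ha, D.rho_zero I (inv_mem hcN)]
  have h1 : g (D.rho c f₀) (w (v 0 1 0)) * T.sg a = 1 := by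
    have h2 := g_rho D I hcL f₀ (w (v 0 1 0))
    rw [ha, D.g_smul_right, D.g_fe] at h2
    rw [mul_comm]; exact h2
  have h6 : g (D.rho c f₀) (D.rho c f₀) = 0 := by rw [g_rho D I hcL, D.g_ff]
  have h7 : D.rho c f₀ ≠ 0 := by
    intro h0
    rw [h0, D.g_zero_left, zero_mul] at h1
    exact zero_ne_one h1
  rcases point D hx h7 h6 with ⟨s, -, hs⟩ | ⟨y, r, b, -, hr, hb, hy⟩
  · exfalso
    rw [hs, D.g_smul, D.g_ee, mul_zero, zero_mul] at h1
    exact zero_ne_one h1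
  · obtain ⟨u, hu, hju⟩ := exists_jm D I Fd hr
    have huU : u ∈ UU V Q Q' := NN_le_UU hu
    have huN := UU_NR I huU
    have huLin := UU_le_Lin D I huU
    refine ⟨u, huU, b, ?_, ?_⟩
    · have e8 : D.rho u (w (v 0 1 0)) = w (v 0 1 0) := by rw [hju, jm_e D]
      have e9 : D.rho u⁻¹ (w (v 0 1 0)) = w (v 0 1 0) := by
        have := D.rho_inv_left I huN (w (v 0 1 0))
        rwa [e8] at this
      rw [D.rho_mul I (inv_mem huN) hcN, ha, rho_smul D I (inv_mem huLin), e9]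
    · have e9 : D.rho u f₀ = f₀ + ι y + r • w (v 0 1 0) := by rw [hju, jm_f D]
      rw [D.rho_mul I (inv_mem huN) hcN, hy, ← e9, rho_smul D I (inv_mem huLin), D.rho_inv_left I huN]

include I hx hne N in
/-- the stabiliser of `e₀` in `L` is `UU` -/
theorem mem_UU_of_e [CharP k 2] (Fd : Fld T V R Q Q' v p φ χ) {c : G} (hc : c ∈ LL V R Q Q')
    (h : D.rho c (w (v 0 1 0)) = w (v 0 1 0)) : c ∈ UU V Q Q' := by
  obtain ⟨u, hu, b, h1, h2⟩ := exists_ut D I hx N Fd hc (a := 1) (by rw [h, one_smul])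
  have hL : u⁻¹ * c ∈ LL V R Q Q' := mul_mem (inv_mem (UU_le_LL V R Q Q' hu)) hc
  have hLin := LL_le_Lin D I hL
  obtain ⟨-, hb, h3⟩ := diag_of D I hx hne hLin (dt_LL D I hL) h1 h2
  have h4 : u⁻¹ * c ∈ Q := by
    apply D.mem_Q_of_rho I (LL_NR D I hL)
    intro m
    obtain ⟨x, y, z, rfl⟩ := D.span m
    rw [D.rho_add I (LL_NR D I hL), D.rho_add I (LL_NR D I hL), rho_smul D I hLin, rho_smul D I hLin, h1, h2,
      h3, hb, map_one, inv_one, mul_one, one_smul, one_smul, one_smul]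
  have h5 : c = u * (u⁻¹ * c) := by group
  rw [h5]
  exact mul_mem hu (Q_le_UU h4)

include I hx hne N in
/-- the elements of `TT` are diagonal -/
theorem TT_diag [CharP k 2] (Fd : Fld T V R Q Q' v p φ χ) {t : G} (ht : t ∈ TT V R Q Q' n₀) :
    ∃ a : F, a ≠ 0 ∧ D.rho t (w (v 0 1 0)) = a • w (v 0 1 0) ∧ D.rho t f₀ = (T.sg a)⁻¹ • f₀ ∧
      ∀ x, D.rho t (ι x) = (T.sg a * a⁻¹) • ι x := by
  obtain ⟨h1, h2, h3⟩ := mem_TT.1 ht
  have hN := LL_NR D I h1
  obtain ⟨a, ha⟩ := stab_of_norm D I Fd hN h2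
  obtain ⟨b, hb⟩ := stab_f D I N Fd hN h3
  obtain ⟨ha0, hb', h4⟩ := diag_of D I hx hne (LL_le_Lin D I h1) (dt_LL D I h1) ha hb
  exact ⟨a, ha0, ha, by rw [hb, hb'], h4⟩

include I N in
/-- a diagonal element of `L` is in `TT` -/
theorem mem_TT_of [CharP k 2] {t : G} (ht : t ∈ LL V R Q Q') {a b : F}
    (ha : D.rho t (w (v 0 1 0)) = a • w (v 0 1 0)) (hb : D.rho t f₀ = b • f₀) : t ∈ TT V R Q Q' n₀ := by
  have hN := LL_NR D I ht
  exact mem_TT.2 ⟨ht, norm_UU D I hN ⟨a, ha⟩, cj_of_f D I N hN ⟨b, hb⟩⟩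

include I N in
theorem Q_le_TT [CharP k 2] : Q ≤ TT V R Q Q' n₀ := by
  intro y hy
  exact mem_TT_of D I N (UU_le_LL V R Q Q' (Q_le_UU hy)) (a := 1) (b := 1) (by rw [D.rho_Q I hy, one_smul])
    (by rw [D.rho_Q I hy, one_smul])

include I hx hne N in
theorem mem_Q_of_TT [CharP k 2] (Fd : Fld T V R Q Q' v p φ χ) {t : G} (ht : t ∈ TT V R Q Q' n₀)
    (h : D.rho t (w (v 0 1 0)) = w (v 0 1 0)) : t ∈ Q := by
  obtain ⟨a, ha0, ha, hb, hc⟩ := TT_diag D I hx hne N Fd ht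
  have hL := (mem_TT.1 ht).1
  have hLin := LL_le_Lin D I hL
  have h1 : a = 1 := by
    have h2 : g (a • w (v 0 1 0)) f₀ = g (w (v 0 1 0)) f₀ := by rw [← ha, h]
    rwa [D.g_smul, D.g_ef, mul_one] at h2
  subst h1
  apply D.mem_Q_of_rho I (LL_NR D I hL)
  intro m
  obtain ⟨x, y, z, rfl⟩ := D.span m
  rw [D.rho_add I (LL_NR D I hL), D.rho_add I (LL_NR D I hL), rho_smul D I hLin, rho_smul D I hLin, ha, hb,
    hc, map_one, inv_one, mul_one, one_smul, one_smul, one_smul]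

/-- the properties of the torus -/
structure Tor (D : Out T V R Q Q' v p φ χ hm w g f₀ ι) (n₀ : G) (A : Subgroup G) : Prop where
  le : A ≤ TT V R Q Q' n₀
  odd : Odd (Nat.card A)
  inf : ∀ a ∈ A, a ∈ Q → a = 1
  fac : ∀ t ∈ TT V R Q Q' n₀, ∃ q ∈ Q, ∃ a ∈ A, t = q * a

include I hx hne N in
theorem exists_A [CharP k 2] [Finite G] (Fd : Fld T V R Q Q' v p φ χ) : ∃ A, Tor D n₀ A := by
  have : Fact (Nat.Prime 2) := ⟨Nat.prime_two⟩
  have hF : CharP F 2 := Quad.charF k F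
  have hQT : Q ≤ TT V R Q Q' n₀ := Q_le_TT D I N
  have hnor : (Q.subgroupOf (TT V R Q Q' n₀)).Normal := by
    constructor
    intro y hy t
    rw [mem_subgroupOf] at hy ⊢
    exact I.nor t (LL_NR D I (mem_TT.1 t.2).1) y hy
  have hodd : ¬ 2 ∣ (Q.subgroupOf (TT V R Q Q' n₀)).index := by
    intro hdvd
    rw [Subgroup.index] at hdvd
    obtain ⟨x, hx2⟩ := exists_prime_orderOf_dvd_card' (G := TT V R Q Q' n₀ ⧸ Q.subgroupOf (TT V R Q Q' n₀)) 2 hdvd
    obtain ⟨t, rfl⟩ := QuotientGroup.mk_surjective x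
    have h1 : ((t : TT V R Q Q' n₀ ⧸ Q.subgroupOf (TT V R Q Q' n₀))) ^ 2 = 1 := by
      rw [← hx2]; exact pow_orderOf_eq_one _
    have h2 : (t : TT V R Q Q' n₀ ⧸ Q.subgroupOf (TT V R Q Q' n₀)) ≠ 1 := by
      intro h
      rw [h, orderOf_one] at hx2
      exact absurd hx2 (by norm_num)
    rw [← QuotientGroup.mk_pow, QuotientGroup.eq_one_iff, mem_subgroupOf] at h1
    rw [Ne, QuotientGroup.eq_one_iff, mem_subgroupOf] at h2
    apply h2
    obtain ⟨a, ha0, ha, hb, hc⟩ := TT_diag D I hx hne N Fd t.2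
    have htN := LL_NR D I (mem_TT.1 t.2).1
    have htL := LL_le_Lin D I (mem_TT.1 t.2).1
    have h3 : D.rho ((t : G) ^ 2) (w (v 0 1 0)) = w (v 0 1 0) := D.rho_Q I h1 _
    rw [pow_two, D.rho_mul I htN htN, ha, rho_smul D I htL, ha, smul_smul] at h3
    have h4 : a * a = 1 := by
      have h5 := congrArg (fun m => g m f₀) h3
      simp only [D.g_smul, D.g_ef, mul_one] at h5
      exact h5
    have h5 : a = 1 := eq_one_of_pow (m := 1) (by rw [pow_one, pow_two, h4])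
    apply mem_Q_of_TT D I hx hne N Fd t.2
    rw [ha, h5, one_smul]
  have hodd' : Odd (Q.subgroupOf (TT V R Q Q' n₀)).index := Nat.odd_iff.2 (by omega)
  have hcop : (Nat.card (Q.subgroupOf (TT V R Q Q' n₀))).Coprime (Q.subgroupOf (TT V R Q Q' n₀)).index := by
    have hp : IsPGroup 2 (Q.subgroupOf (TT V R Q Q' n₀)) := by
      intro x
      obtain ⟨m, hm⟩ := I.Q_two ⟨x.1.1, mem_subgroupOf.1 x.2⟩
      refine ⟨m, ?_⟩
      apply Subtype.ext
      apply Subtype.ext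
      exact congrArg (fun z : Q => (z : G)) hm
    obtain ⟨m, hm⟩ := (IsPGroup.iff_card (p := 2)).1 hp
    rw [hm]
    exact Nat.Coprime.pow_left m (Nat.coprime_two_left.2 hodd')
  obtain ⟨H, hH⟩ := Subgroup.exists_right_complement'_of_coprime hcop
  refine ⟨H.map (TT V R Q Q' n₀).subtype, ?_, ?_, ?_, ?_⟩
  · exact map_subtype_le H
  · have h1 : Nat.card (H.map (TT V R Q Q' n₀).subtype) = Nat.card H :=
      Nat.card_congr (H.equivMapOfInjective _ (Subtype.val_injective)).toEquiv.symm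
    rw [h1, ← hH.symm.index_eq_card]
    exact hodd'
  · rintro _ ⟨a, ha, rfl⟩ haQ
    have h1 := hH.disjoint.le_bot (mem_inf.2 ⟨mem_subgroupOf.2 haQ, ha⟩)
    rw [mem_bot] at h1
    rw [h1]; rfl
  · intro t ht
    obtain ⟨⟨q, a⟩, h1⟩ := hH.2 ⟨t, ht⟩
    refine ⟨q.1.1, mem_subgroupOf.1 q.2, a.1.1, ⟨a.1, a.2, rfl⟩, ?_⟩
    exact (congrArg (fun z : TT V R Q Q' n₀ => (z : G)) h1).symm

variable {A : Subgroup G} (HA : Tor D n₀ A)

include HA in
theorem A_LL : A ≤ LL V R Q Q' := fun _ ha => (mem_TT.1 (HA.le ha)).1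

include HA in
theorem A_norm : A ≤ normalizer (UU V Q Q' : Set G) := fun _ ha => mem_norm_iff.2 (mem_TT.1 (HA.le ha)).2.1

include I hx hne N HA in
theorem A_comm [CharP k 2] (Fd : Fld T V R Q Q' v p φ χ) : ∀ a ∈ A, ∀ b ∈ A, a * b = b * a := by
  intro a ha b hb
  have hcA : a * b * a⁻¹ * b⁻¹ ∈ A := mul_mem (mul_mem (mul_mem ha hb) (inv_mem ha)) (inv_mem hb)
  have haL := A_LL D HA ha
  have hbL := A_LL D HA hb
  have haN := LL_NR D I haL
  have hbN := LL_NR D I hbL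
  obtain ⟨α, hα0, hα, -⟩ := TT_diag D I hx hne N Fd (HA.le ha)
  obtain ⟨β, hβ0, hβ, -⟩ := TT_diag D I hx hne N Fd (HA.le hb)
  have h1 : D.rho (a * b) (w (v 0 1 0)) = D.rho (b * a) (w (v 0 1 0)) := by
    rw [D.rho_mul I haN hbN, D.rho_mul I hbN haN, hα, hβ, rho_smul D I (LL_le_Lin D I haL),
      rho_smul D I (LL_le_Lin D I hbL), hα, hβ, smul_smul, smul_smul, mul_comm]
  have h2 : D.rho ((b * a)⁻¹ * (a * b)) (w (v 0 1 0)) = w (v 0 1 0) := by
    rw [D.rho_mul I (inv_mem (mul_mem hbN haN)) (mul_mem haN hbN), h1, D.rho_inv_left I (mul_mem hbN haN)]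
  have hm : (b * a)⁻¹ * (a * b) ∈ A := mul_mem (inv_mem (mul_mem hb ha)) (mul_mem ha hb)
  have h3 := HA.inf _ hm (mem_Q_of_TT D I hx hne N Fd (HA.le hm) h2)
  exact (inv_mul_eq_one.1 h3).symm

include I hx hne N HA in
/-- every weight occurs -/
theorem exists_a [CharP k 2] (Fd : Fld T V R Q Q' v p φ χ) {c : F} (hc : c ≠ 0) : ∃ a ∈ A,
    D.rho a (w (v 0 1 0)) = c • w (v 0 1 0) ∧ D.rho a f₀ = (T.sg c)⁻¹ • f₀ ∧
      ∀ x, D.rho a (ι x) = (T.sg c * c⁻¹) • ι x := by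
  obtain ⟨t, htL, h1, h2, h3⟩ := exists_tor D I hx hne N Fd hc
  obtain ⟨q, hq, a, ha, rfl⟩ := HA.fac t (mem_TT_of D I N htL h1 h2)
  have haN := LL_NR D I (A_LL D HA ha)
  have h4 : ∀ m, D.rho (q * a) m = D.rho a m := by
    intro m
    rw [D.rho_mul I (I.Q_NR hq) haN, D.rho_Q I hq]
  refine ⟨a, ha, ?_, ?_, ?_⟩
  · rw [← h4, h1]
  · rw [← h4, h2]
  · intro x
    rw [← h4, h3]

include I hx hne N HA in
/-- `N_L(UU) = UU A` -/
theorem norm_le [CharP k 2] (Fd : Fld T V R Q Q' v p φ χ) {c : G} (hc : c ∈ LL V R Q Q')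
    (h : cj c (UU V Q Q') = UU V Q Q') : c ∈ UU V Q Q' ⊔ A := by
  obtain ⟨a, ha⟩ := stab_of_norm D I Fd (LL_NR D I hc) h
  obtain ⟨u, hu, b, h1, h2⟩ := exists_ut D I hx N Fd hc ha
  have hL : u⁻¹ * c ∈ LL V R Q Q' := mul_mem (inv_mem (UU_le_LL V R Q Q' hu)) hc
  obtain ⟨q, hq, a', ha', e⟩ := HA.fac _ (mem_TT_of D I N hL h1 h2)
  have e2 : c = u * q * a' := by rw [mul_assoc, ← e]; group
  rw [e2]
  exact mul_mem (mem_sup_left (mul_mem hu (Q_le_UU hq))) (mem_sup_right ha')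

include I hx hne N in
/-- `UU` is a Sylow subgroup of `L` -/
theorem sylow_LL [CharP k 2] [Finite G] (Fd : Fld T V R Q Q' v p φ χ) : ∀ P ≤ LL V R Q Q', IsPGroup 2 P →
    UU V Q Q' ≤ P → P ≤ UU V Q Q' := by
  intro P hPL hP hU
  have hF : CharP F 2 := Quad.charF k F
  by_contra hcon
  obtain ⟨x, hxP, hxU, hn⟩ := exists_norm_of_lt hP hU hcon
  have hxL := hPL hxP
  have hxN := LL_NR D I hxL
  obtain ⟨a, ha⟩ := stab_of_norm D I Fd hxN hn
  apply hxU
  apply mem_UU_of_e D I hx hne N Fd hxL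
  obtain ⟨m, hm⟩ := hP ⟨x, hxP⟩
  have hm' : x ^ 2 ^ m = 1 := congrArg (fun z : P => (z : G)) hm
  have key : ∀ j : ℕ, D.rho (x ^ j) (w (v 0 1 0)) = a ^ j • w (v 0 1 0) := by
    intro j
    induction j with
    | zero => rw [pow_zero, pow_zero, D.rho_one I, one_smul]
    | succ j ih =>
      rw [pow_succ, D.rho_mul I (pow_mem hxN j) hxN, ha, rho_smul D I (pow_mem (LL_le_Lin D I hxL) j), ih,
        smul_smul, pow_succ, mul_comm]
  have h1 := key (2 ^ m)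
  rw [hm', D.rho_one I] at h1
  have h2 : a ^ 2 ^ m = 1 := by
    have h5 := congrArg (fun m => g m f₀) h1
    simp only [D.g_smul, D.g_ef, mul_one] at h5
    exact h5.symm
  rw [ha, eq_one_of_pow h2, one_smul]

end

end Cfsg.Agent.RankTwoClose.UFive.LSide

end

section


/-!
# `U₅(q)`: the side `L` from THEOREM UNI, part 5: the remaining fields of `QIn`

`comm_Q`, `sq_Q`, `LR`, `SL`, `US`, `opp`, `irr`, `cD`, `ruling`, `cyc`, `cent`.
-/

set_option autoImplicit false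
set_option linter.unusedSectionVars false

open Subgroup

namespace Cfsg.Agent.RankTwoClose.UFive.LSide

open Cfsg.Agent.Omega.NOne.SU
open Cfsg.Agent.RankTwoClose.UFour (cj cj_mul cj_inv_cj cj_cj_inv cj_one mem_norm_iff cj_eq_of_mem mem_cj)

variable {G : Type*} [Group G] {k F : Type*} [Field k] [Field F] [Algebra k F]

section

variable {T : Quad k F} {S : Sylow 2 G} {V R Q Q' : Subgroup G} {v : k → F → k → G} {p p' : G → F}
    {Φ : Type*} [AddCommGroup Φ] [Module F Φ] {φ χ : G → Φ} {hm : Φ → Φ → F}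
    {W : Type*} [AddCommGroup W] [Module F W] {w : G → W} {g : W → W → F} {f₀ : W}
    {ι : Φ →ₗ[F] W} (D : Out T V R Q Q' v p φ χ hm w g f₀ ι) (I : GIn T S V R Q Q' v p p')
    {x₀ : Φ} (hx : ∀ x : Φ, ∃ s : F, x = s • x₀) (hne : x₀ ≠ 0) {n₀ : G} (N : Sw D n₀)

/-! ### The group `Q` -/

include D I in
theorem comm_Q [CharP k 2] : ⁅Q, Q⁆ = R := by
  have := T.fink
  apply le_antisymm
  · rw [commutator_le]
    intro x hx y hy
    rw [commutatorElement_def, D.comm x hx y hy]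
    exact I.v_R _
  · intro r hr
    obtain ⟨a, rfl⟩ := I.mem_R.1 hr
    obtain ⟨θ, hθ⟩ := T.exists_tr_one
    obtain ⟨y, hyQ, hy⟩ := D.w_surj ((a • θ) • f₀)
    have h1 := D.comm (v 0 1 0) (I.E_le 0 1) y hyQ
    rw [hy, D.g_smul_right, D.g_ef, mul_one, T.tr_sg, map_smul, hθ, smul_eq_mul, mul_one] at h1
    rw [← h1, ← commutatorElement_def]
    exact commutator_mem_commutator (I.E_le 0 1) hyQ

include D in
theorem sq_Q [CharP k 2] : ∀ x ∈ Q, x * x ∈ R := by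
  intro x hx
  rw [← D.w_eq _ (mul_mem hx hx), D.w_mul x hx x hx, two_W D]

include D I in
theorem LR [CharP k 2] : ∀ l ∈ LL V R Q Q', ∀ z ∈ R, l * z = z * l := by
  intro l hl z hz
  exact (mem_centralizer_iff.1 (LL_CR D I hl) z hz).symm

include I in
theorem SL : ∀ s ∈ S, ∀ l ∈ LL V R Q Q', s * l * s⁻¹ ∈ LL V R Q Q' := by
  intro s hs l hl
  exact conj_LL (I.S_R hs) hl

include D I in
theorem US [CharP k 2] : UU V Q Q' ≤ S := by
  have h1 : (S : Subgroup G) ≤ normalizer (UU V Q Q' : Set G) := by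
    intro s hs
    exact mem_norm_iff.2 (norm_of_NV D I (I.S_R hs) (I.S_V hs))
  have h2 : IsPGroup 2 ((S : Subgroup G) ⊔ UU V Q Q' : Subgroup G) :=
    IsPGroup.to_sup_of_normal_right' S.isPGroup' (UU_two D I) h1
  have h3 := S.is_maximal' h2 le_sup_left
  intro u hu
  have : u ∈ (S : Subgroup G) ⊔ UU V Q Q' := mem_sup_right hu
  rwa [h3] at this

include D I in
/-- an element of `L` normalising `UU` normalises `V` -/
theorem LNV [CharP k 2] (Fd : Fld T V R Q Q' v p φ χ) : ∀ c ∈ LL V R Q Q', cj c (UU V Q Q') = UU V Q Q' →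
    cj c V = V := by
  intro c hc h
  have hN := LL_NR D I hc
  obtain ⟨s, hs⟩ := stab_of_norm D I Fd hN h
  apply mem_norm_iff.1
  apply D.stab c hN
  exact ⟨s, by rw [← hs, D.rho_w I hN (I.E_le _ _)]⟩

include I N in
theorem opp [CharP k 2] : ∀ x ∈ V ⊓ Q, (∀ y ∈ cj n₀ (V ⊓ Q), x * y = y * x) → x ∈ R := by
  intro x hx h
  obtain ⟨hxV, hxQ⟩ := mem_inf.1 hx
  obtain ⟨a, b, d, rfl⟩ := I.v_surj x hxV
  obtain rfl := I.V_Q a b d hxQ
  have hnN := sw_NR D I N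
  have hnL := LL_le_Lin D I N.mem
  have hb : b = 0 := by
    apply T.tr_nondeg
    intro c
    have hy : v 0 (T.sg c) 0 ∈ V ⊓ Q := mem_inf.2 ⟨I.v_mem _ _ _, I.E_le _ _⟩
    have h1 := h _ ⟨_, hy, rfl⟩
    change v a b 0 * (n₀ * v 0 (T.sg c) 0 * n₀⁻¹) = (n₀ * v 0 (T.sg c) 0 * n₀⁻¹) * v a b 0 at h1
    have hyQ : n₀ * v 0 (T.sg c) 0 * n₀⁻¹ ∈ Q := I.nor n₀ hnN _ (I.E_le _ _)
    have h2 := D.comm _ hxQ _ hyQ
    have h3 : v a b 0 * (n₀ * v 0 (T.sg c) 0 * n₀⁻¹) * (v a b 0)⁻¹ * (n₀ * v 0 (T.sg c) 0 * n₀⁻¹)⁻¹ = 1 := by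
      rw [h1]; group
    have hw1 : w (v a b 0) = b • w (v 0 1 0) := D.w_v I a b
    have hw2 : w (v 0 (T.sg c) 0) = T.sg c • w (v 0 1 0) := D.w_v I 0 (T.sg c)
    rw [h3, ← D.rho_w I hnN (I.E_le _ _), hw1, hw2, rho_smul D I hnL, N.e, D.g_smul, D.g_smul_right,
      D.g_ef, mul_one, T.sg_sg] at h2
    have h4 := (I.v_inj _ _ _ h2.symm).1
    rw [mul_comm]
    exact h4
  rw [hb]
  exact I.v_R a

/-! ### Irreducibility -/

include I hx hne N in
theorem irr [CharP k 2] (Fd : Fld T V R Q Q' v p φ χ) : ∀ M ≤ Q,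
    (∀ l ∈ LL V R Q Q', ∀ x ∈ M, l * x * l⁻¹ ∈ M) → M ≤ R ∨ Q ≤ M ⊔ R := by
  intro M hMQ hM
  by_cases hMR : M ≤ R
  · exact Or.inl hMR
  right
  obtain ⟨x, hxM, hxR⟩ := SetLike.not_le_iff_exists.1 hMR
  have hadd : ∀ m m', (∃ x ∈ M, w x = m) → (∃ x ∈ M, w x = m') → ∃ x ∈ M, w x = m + m' := by
    rintro _ _ ⟨x, hx, rfl⟩ ⟨y, hy, rfl⟩
    exact ⟨x * y, mul_mem hx hy, D.w_mul x (hMQ hx) y (hMQ hy)⟩
  have hrho : ∀ l ∈ LL V R Q Q', ∀ m, (∃ x ∈ M, w x = m) → ∃ x ∈ M, w x = D.rho l m := by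
    rintro l hl _ ⟨x, hx, rfl⟩
    exact ⟨_, hM l hl x hx, (D.rho_w I (LL_NR D I hl) (hMQ hx)).symm⟩
  have hdiff : ∀ m m', (∃ x ∈ M, w x = m) → (∃ x ∈ M, w x = m + m') → ∃ x ∈ M, w x = m' := by
    intro m m' h1 h2
    have h3 := hadd _ _ h1 h2
    rwa [← add_assoc, two_W D, zero_add] at h3
  -- a multiple of `e₀`
  have hstep : ∃ s : F, s ≠ 0 ∧ ∃ x ∈ M, w x = s • w (v 0 1 0) := by
    have hm0 : w x ≠ 0 := fun h => hxR ((D.w_eq x (hMQ hxM)).1 h)
    have hmM : ∃ y ∈ M, w y = w x := ⟨x, hxM, rfl⟩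
    by_cases hb : g (w x) (w (v 0 1 0)) = 0
    · obtain ⟨x', hd⟩ := D.decomp (w x)
      rw [hb, zero_smul, add_zero] at hd
      by_cases hx' : x' = 0
      · rw [hx', map_zero, add_zero] at hd
        refine ⟨g (w x) f₀, ?_, x, hxM, hd⟩
        intro h0
        rw [h0, zero_smul] at hd
        exact hm0 hd
      · obtain ⟨y, hy⟩ : ∃ y, hm x' y ≠ 0 := by
          by_contra hcon
          push Not at hcon
          exact hx' (D.hm_nondeg x' hcon)
        obtain ⟨r, hr⟩ := exists_r D y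
        obtain ⟨u, hu, hju⟩ := exists_jm D I Fd hr
        have h1 := hrho u (UU_le_LL V R Q Q' (NN_le_UU hu)) _ hmM
        rw [hju, jm, hb, zero_smul, add_zero, mul_zero, add_zero] at h1
        have h2 : g (w x) (ι y) = hm x' y := by
          rw [hd, D.g_add, D.g_smul, D.g_eι, D.g_ιι, mul_zero, zero_add]
        rw [h2] at h1
        exact ⟨_, hy, hdiff _ _ hmM h1⟩
    · have h1 := hrho _ (UU_le_LL V R Q Q' (V_le_UU I (I.v_mem 0 0 1))) _ hmM
      rw [D.rho_tv I, map_one, one_mul] at h1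
      exact ⟨_, hb, hdiff _ _ hmM h1⟩
  obtain ⟨s, hs0, hs⟩ := hstep
  have he : ∀ c : F, ∃ x ∈ M, w x = c • w (v 0 1 0) := by
    intro c
    by_cases hc : c = 0
    · exact ⟨1, one_mem _, by rw [D.w_one, hc, zero_smul]⟩
    · obtain ⟨t, htL, h1, -, -⟩ := exists_tor D I hx hne N Fd (div_ne_zero hc hs0)
      have h2 := hrho t htL _ hs
      rwa [rho_smul D I (LL_le_Lin D I htL), h1, smul_smul, mul_div_cancel₀ _ hs0] at h2
  have hf : ∀ c : F, ∃ x ∈ M, w x = c • f₀ := by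
    intro c
    have h2 := hrho n₀ N.mem _ (he c)
    rwa [rho_smul D I (LL_le_Lin D I N.mem), N.e] at h2
  have hi : ∀ y : Φ, ∃ x ∈ M, w x = ι y := by
    intro y
    obtain ⟨r, hr⟩ := exists_r D y
    obtain ⟨u, hu, hju⟩ := exists_jm D I Fd hr
    have h0 := hf 1
    rw [one_smul] at h0
    have h1 := hrho u (UU_le_LL V R Q Q' (NN_le_UU hu)) _ h0
    rw [hju, jm_f D, add_assoc] at h1
    have h2 := hdiff _ _ h0 h1
    rw [add_comm] at h2
    exact hdiff _ _ (he r) h2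
  intro y hy
  obtain ⟨a, x', b, hd⟩ := D.span (w y)
  obtain ⟨z, hz, hzw⟩ := hadd _ _ (hadd _ _ (he a) (hi x')) (hf b)
  rw [← hd] at hzw
  have h1 : y * z⁻¹ ∈ R := (D.w_eq_iff hy (hMQ hz)).1 hzw.symm
  have h2 : y = (y * z⁻¹) * z := by group
  rw [h2]
  exact mul_mem (mem_sup_right h1) (mem_sup_left hz)

/-! ### `cD` and `ruling` -/

include I N in
theorem mem_T [CharP k 2] {y : G} (hy : y ∈ Q) {x : Φ} (h : w y = ι x) :
    y ∈ (Q ⊓ centralizer (V : Set G)) ⊓ cj n₀ (Q ⊓ centralizer (V : Set G)) := by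
  have hnN := sw_NR D I N
  refine mem_inf.2 ⟨mem_inf.2 ⟨hy, ?_⟩, mem_cj.2 (mem_inf.2 ⟨I.nor_inv hnN hy, ?_⟩)⟩
  · rw [I.mem_CV hy, D.p_eq y hy, h, D.g_ιe]
  · rw [I.mem_CV (I.nor_inv hnN hy), D.p_eq _ (I.nor_inv hnN hy)]
    have h1 : w (n₀⁻¹ * y * n₀) = ι x := by
      have h2 : D.rho n₀⁻¹ (w y) = w (n₀⁻¹ * y * n₀) := by
        rw [D.rho_w I (inv_mem hnN) hy, inv_inv]
      rw [← h2, h, sw_inv D I N, N.i]
    rw [h1, D.g_ιe]

include I N in
theorem cD [CharP k 2] [Finite G] : Q.relIndex (UU V Q Q') ≤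
    Nat.card ↥((Q ⊓ centralizer (V : Set G)) ⊓ cj n₀ (Q ⊓ centralizer (V : Set G))) := by
  classical
  -- the parameters of an element of `UU`
  have h1 : ∀ u : UU V Q Q', ∃ xr : Φ × F, xr.2 + T.sg xr.2 = hm xr.1 xr.1 ∧
      ∀ m, D.rho (u : G) m = jm g (w (v 0 1 0)) ι xr.1 xr.2 m := by
    intro u
    obtain ⟨x, r, hr, h⟩ := rho_UU D I u.2
    exact ⟨(x, r), hr, h⟩
  choose xr hxr hrho using h1
  have h2 : ∀ x : Φ, ∃ y ∈ Q, w y = ι x := fun x => D.w_surj _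
  choose y hyQ hyw using h2
  have h3 : ∀ x : Φ, ∃ r : F, r + T.sg r = hm x x := fun x => exists_r D x
  choose r0 hr0 using h3
  have h4 : ∀ u : UU V Q Q', ∃ d : k, algebraMap k F d = (xr u).2 + r0 (xr u).1 := by
    intro u
    apply T.fix
    have e1 := hxr u
    have e2 := hr0 (xr u).1
    rw [← e2] at e1
    rw [map_add]
    have h3 := T.two_F (T.sg (xr u).2)
    have h4 := T.two_F (r0 (xr u).1)
    linear_combination (-1 : F) * e1 + h3 - h4
  choose d hd using h4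
  let Fn : UU V Q Q' → ↥((Q ⊓ centralizer (V : Set G)) ⊓ cj n₀ (Q ⊓ centralizer (V : Set G))) := fun u =>
    ⟨y (xr u).1 * v (d u) 0 0, mem_T D I N (mul_mem (hyQ _) (I.R_Q (I.v_R _))) (x := (xr u).1) (by
      rw [D.w_mul _ (hyQ _) _ (I.R_Q (I.v_R _)), (D.w_eq _ (I.R_Q (I.v_R _))).2 (I.v_R _), add_zero, hyw])⟩
  have hFn : ∀ u u' : UU V Q Q', Fn u = Fn u' → (u : G)⁻¹ * u' ∈ Q := by
    intro u u' h
    have h5 : y (xr u).1 * v (d u) 0 0 = y (xr u').1 * v (d u') 0 0 := congrArg Subtype.val h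
    have h6 : (xr u).1 = (xr u').1 := by
      have h7 := congrArg w h5
      rw [D.w_mul _ (hyQ _) _ (I.R_Q (I.v_R _)), (D.w_eq _ (I.R_Q (I.v_R _))).2 (I.v_R _),
        D.w_mul _ (hyQ _) _ (I.R_Q (I.v_R _)), (D.w_eq _ (I.R_Q (I.v_R _))).2 (I.v_R _), add_zero, add_zero,
        hyw, hyw] at h7
      have h8 : ι ((xr u).1 - (xr u').1) = 0 := by rw [map_sub, h7, sub_self]
      exact sub_eq_zero.1 (D.ι_inj h8)
    rw [h6] at h5
    have h7 : d u = d u' := (I.v_ext (mul_left_cancel h5)).1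
    have h8 : (xr u).2 = (xr u').2 := by
      have e1 := hd u
      have e2 := hd u'
      rw [h7, h6] at e1
      exact add_right_cancel (e1.symm.trans e2)
    have huN := UU_NR I u.2
    have hu'N := UU_NR I u'.2
    apply D.mem_Q_of_rho I (mul_mem (inv_mem huN) hu'N)
    intro m
    rw [D.rho_mul I (inv_mem huN) hu'N, hrho u', ← h6, ← h8, ← hrho u, D.rho_inv_left I huN]
  rw [relIndex, Subgroup.index]
  apply Nat.card_le_card_of_injective (fun q : UU V Q Q' ⧸ Q.subgroupOf (UU V Q Q') => Fn (Quotient.out q))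
  intro q q' h
  have h5 := hFn _ _ h
  have h6 : (Quotient.out q)⁻¹ * Quotient.out q' ∈ Q.subgroupOf (UU V Q Q') := mem_subgroupOf.2 h5
  have h7 := QuotientGroup.eq.2 h6
  rwa [QuotientGroup.out_eq', QuotientGroup.out_eq'] at h7

include I N in
theorem ruling [CharP k 2] : ∀ x ∈ V, x ∉ Q → ∃ y ∈ cj n₀ V, cj (x * y * x) (cj n₀ (UU V Q Q')) = UU V Q Q' := by
  intro x hxV hxQ
  obtain ⟨a, b, d, rfl⟩ := I.v_surj x hxV
  have hd : d ≠ 0 := by
    rintro rfl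
    exact hxQ (I.E_le a b)
  have hnN := sw_NR D I N
  have hnL := LL_le_Lin D I N.mem
  have hvN : ∀ a b d, v a b d ∈ normalizer (R : Set G) := fun a b d => I.CR_NR (I.V_CR (I.v_mem a b d))
  refine ⟨n₀ * v 0 0 d⁻¹ * n₀⁻¹, ⟨_, I.v_mem 0 0 d⁻¹, rfl⟩, ?_⟩
  set y := n₀ * v 0 0 d⁻¹ * n₀⁻¹ with hy
  have hyN : y ∈ normalizer (R : Set G) := mul_mem (mul_mem hnN (hvN _ _ _)) (inv_mem hnN)
  have rx : ∀ m, D.rho (v a b d) m = m + (algebraMap k F d * g m (w (v 0 1 0))) • w (v 0 1 0) := by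
    intro m
    have e : v a b d = v a b 0 * v 0 0 d := by rw [I.v_mul, add_zero, add_zero, zero_add]
    rw [e, D.rho_mul I (hvN _ _ _) (hvN _ _ _), D.rho_Q I (I.E_le a b), D.rho_tv I]
  have ry : ∀ m, D.rho y m = m + (algebraMap k F d⁻¹ * g m f₀) • f₀ := rho_tv_sw D I N d⁻¹
  have hdd : algebraMap k F d⁻¹ * algebraMap k F d = 1 := by
    rw [← map_mul, inv_mul_cancel₀ hd, map_one]
  have e1 : D.rho (v a b d) f₀ = f₀ + algebraMap k F d • w (v 0 1 0) := by rw [rx, D.g_fe, mul_one]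
  have e2 : D.rho y (f₀ + algebraMap k F d • w (v 0 1 0)) = algebraMap k F d • w (v 0 1 0) := by
    rw [ry, D.g_add, D.g_ff, D.g_smul, D.g_ef, zero_add, mul_one, hdd, one_smul, add_comm f₀, add_assoc,
      two_W D, add_zero]
  have e3 : D.rho (v a b d) (algebraMap k F d • w (v 0 1 0)) = algebraMap k F d • w (v 0 1 0) := by
    rw [rx, D.g_smul, D.g_ee, mul_zero, mul_zero, zero_smul, add_zero]
  rw [← cj_mul]
  have hN3 : v a b d * y * v a b d ∈ normalizer (R : Set G) := mul_mem (mul_mem (hvN _ _ _) hyN) (hvN _ _ _)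
  apply norm_UU D I (mul_mem hN3 hnN)
  refine ⟨algebraMap k F d, ?_⟩
  rw [D.rho_mul I hN3 hnN, N.e, D.rho_mul I (mul_mem (hvN _ _ _) hyN) (hvN _ _ _), e1,
    D.rho_mul I (hvN _ _ _) hyN, e2, e3]

/-! ### Coordinates, `cyc` and `cent` -/

/-- the vector with the given coordinates -/
def em (e₀ f₀ : W) (ι : Φ →ₗ[F] W) (x₀ : Φ) (x : F × F × F) : W := x.1 • e₀ + x.2.1 • ι x₀ + x.2.2 • f₀

theorem em_add (x y : F × F × F) : em (w (v 0 1 0)) f₀ ι x₀ (x + y) =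
    em (w (v 0 1 0)) f₀ ι x₀ x + em (w (v 0 1 0)) f₀ ι x₀ y := by
  unfold em
  rw [Prod.fst_add, Prod.snd_add, Prod.fst_add, Prod.snd_add, add_smul, add_smul, add_smul]
  abel

include D hne in
theorem em_inj {x y : F × F × F} (h : em (w (v 0 1 0)) f₀ ι x₀ x = em (w (v 0 1 0)) f₀ ι x₀ y) : x = y := by
  have h1 : x.1 = y.1 := by
    have h2 := congrArg (fun m => g m f₀) h
    simp only [em, D.g_add, D.g_smul, D.g_ef, D.g_ιf, D.g_ff, mul_one, mul_zero, add_zero] at h2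
    exact h2
  have h3 : x.2.2 = y.2.2 := by
    have h2 := congrArg (fun m => g m (w (v 0 1 0))) h
    simp only [em, D.g_add, D.g_smul, D.g_ee, D.g_ιe, D.g_fe, mul_one, mul_zero, zero_add] at h2
    exact h2
  have h2 : x.2.1 = y.2.1 := by
    unfold em at h
    rw [h1, h3] at h
    have h4 := add_left_cancel (add_right_cancel h)
    have h5 : (x.2.1 - y.2.1) • ι x₀ = 0 := by rw [sub_smul, h4, sub_self]
    rcases smul_eq_zero.1 h5 with h | h
    · exact sub_eq_zero.1 h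
    · exact absurd (D.ι_inj h) hne
  exact Prod.ext h1 (Prod.ext h2 h3)

include D hx in
theorem em_surj (m : W) : ∃ x : F × F × F, em (w (v 0 1 0)) f₀ ι x₀ x = m := by
  obtain ⟨a, y, b, rfl⟩ := D.span m
  obtain ⟨s, rfl⟩ := hx y
  exact ⟨(a, s, b), by rw [em, map_smul]⟩

/-- the diagonal action in coordinates -/
theorem rho_em [CharP k 2] {a : G} (ha : a ∈ Lin D I) {α : Fˣ}
    (h1 : D.rho a (w (v 0 1 0)) = (α : F) • w (v 0 1 0)) (h2 : D.rho a f₀ = (T.sg (α : F))⁻¹ • f₀)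
    (h3 : ∀ x, D.rho a (ι x) = (T.sg (α : F) * (α : F)⁻¹) • ι x) (x : F × F × F) :
    D.rho a (em (w (v 0 1 0)) f₀ ι x₀ x) = em (w (v 0 1 0)) f₀ ι x₀ (Weights.act (Nat.card k) α x) := by
  have hk := T.fink
  have hN := Lin_NR D I ha
  have hq : 1 ≤ Nat.card k := by have := T.four; omega
  unfold em
  rw [D.rho_add I hN, D.rho_add I hN, rho_smul D I ha, rho_smul D I ha, rho_smul D I ha, h1, h2, h3,
    smul_smul, smul_smul, smul_smul]
  have e1 : (Weights.act (Nat.card k) α x).1 = x.1 * (α : F) := by rw [mul_comm]; rfl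
  have e2 : (Weights.act (Nat.card k) α x).2.1 = x.2.1 * (T.sg (α : F) * (α : F)⁻¹) := by
    change (α : F) ^ (Nat.card k - 1) * x.2.1 = _
    have h5 : T.sg (α : F) * (α : F)⁻¹ = (α : F) ^ (Nat.card k - 1) := by
      rw [T.sg_pow]
      have h6 : (α : F) ^ Nat.card k = (α : F) ^ (Nat.card k - 1) * (α : F) := by
        rw [← pow_succ, Nat.sub_add_cancel hq]
      rw [h6, mul_inv_cancel_right₀ α.ne_zero]
    rw [h5, mul_comm]
  have e3 : (Weights.act (Nat.card k) α x).2.2 = x.2.2 * (T.sg (α : F))⁻¹ := by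
    change ((α⁻¹ : Fˣ) : F) ^ Nat.card k * x.2.2 = _
    rw [T.sg_pow, Units.val_inv_eq_inv_val, inv_pow, mul_comm]
  rw [e1, e2, e3]

variable {A : Subgroup G} (HA : Tor D n₀ A)

include I hx hne N HA in
theorem exists_a_em [CharP k 2] (Fd : Fld T V R Q Q' v p φ χ) (α : Fˣ) : ∃ a ∈ A, ∀ x : F × F × F,
    D.rho a (em (w (v 0 1 0)) f₀ ι x₀ x) = em (w (v 0 1 0)) f₀ ι x₀ (Weights.act (Nat.card k) α x) := by
  obtain ⟨a, ha, h1, h2, h3⟩ := exists_a D I hx hne N HA Fd α.ne_zero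
  exact ⟨a, ha, rho_em D I (LL_le_Lin D I (A_LL D HA ha)) h1 h2 h3⟩

theorem exists_two_pow (k : Type*) [Field k] [Finite k] [CharP k 2] : ∃ m, Nat.card k = 2 ^ m := by
  have := Fintype.ofFinite k
  obtain ⟨n, -, h⟩ := FiniteField.card k 2
  exact ⟨n, by rw [Nat.card_eq_fintype_card, h]⟩

include I hx hne N HA in
theorem cyc [CharP k 2] (Fd : Fld T V R Q Q' v p φ χ) :
    ∃ z ∈ Q, Q ≤ closure {x | ∃ a ∈ A, x = a * z * a⁻¹} ⊔ R := by
  classical
  have hk := T.fink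
  have hFf := T.finF
  have hFi : Fintype F := Fintype.ofFinite F
  have hF : CharP F 2 := Quad.charF k F
  choose co hco using em_surj D hx
  have hco' : ∀ x, co (em (w (v 0 1 0)) f₀ ι x₀ x) = x := fun x => em_inj D hne (hco _)
  refine Weights.exists_cyc (F := F) (q := Nat.card k) (by rw [← T.card, Nat.card_eq_fintype_card])
    (exists_two_pow k) T.four (fun y => co (w y)) ?_ ?_ ?_ I.R_Q ?_ ?_ ?_
  · intro x hx y hy
    apply em_inj D hne
    rw [hco, em_add, hco, hco, D.w_mul x hx y hy]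
  · intro x
    obtain ⟨y, hy, h⟩ := D.w_surj (em (w (v 0 1 0)) f₀ ι x₀ x)
    exact ⟨y, hy, by rw [h, hco']⟩
  · intro x hx h
    rw [← D.w_eq x hx, ← hco (w x), h]
    unfold em
    rw [Prod.fst_zero, Prod.snd_zero, Prod.fst_zero, Prod.snd_zero, zero_smul, zero_smul, zero_smul, add_zero,
      add_zero]
  · intro a ha x hx
    exact I.nor a (LL_NR D I (A_LL D HA ha)) x hx
  · intro a ha z hz
    have h1 := mem_centralizer_iff.1 (LL_CR D I (A_LL D HA ha)) z hz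
    have h2 : a * z * a⁻¹ = z := by rw [← h1]; group
    rwa [h2]
  · intro α
    obtain ⟨a, ha, h⟩ := exists_a_em D I hx hne N HA Fd α
    refine ⟨a, ha, fun y hy => ?_⟩
    apply em_inj D hne
    rw [hco, ← h, hco, D.rho_w I (LL_NR D I (A_LL D HA ha)) hy]

include I hx hne N HA in
/-- **a 2-element of `N(R) ∩ N(V)` centralising `A` is in `R`** -/
theorem cent [CharP k 2] (Fd : Fld T V R Q Q' v p φ χ) : ∀ s ∈ S, (∀ a ∈ A, a * s = s * a) → s ∈ R := by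
  classical
  intro s hs hc
  have hk := T.fink
  have hFf := T.finF
  have hFi : Fintype F := Fintype.ofFinite F
  have hF : CharP F 2 := Quad.charF k F
  have hsN : s ∈ normalizer (R : Set G) := I.S_R hs
  obtain ⟨l, hl⟩ := em_surj D hx (D.rho s (em (w (v 0 1 0)) f₀ ι x₀ (1, 1, 1)))
  have em0 : em (w (v 0 1 0)) f₀ ι x₀ 0 = 0 := by
    unfold em
    rw [Prod.fst_zero, Prod.snd_zero, Prod.fst_zero, Prod.snd_zero, zero_smul, zero_smul, zero_smul, add_zero,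
      add_zero]
  let W₀ : AddSubgroup (F × F × F) :=
    { carrier := {x | D.rho s (em (w (v 0 1 0)) f₀ ι x₀ x) = em (w (v 0 1 0)) f₀ ι x₀ (l * x)}
      add_mem' := by
        intro x y hx hy
        change D.rho s _ = _ at hx
        change D.rho s _ = _ at hy
        change D.rho s _ = _
        rw [em_add, D.rho_add I hsN, hx, hy, mul_add, em_add]
      zero_mem' := by
        change D.rho s _ = _
        rw [mul_zero, em0, D.rho_zero I hsN]
      neg_mem' := by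
        intro x hx
        change D.rho s _ = _ at hx
        change D.rho s _ = _
        have h2 : -x = x := by
          have h3 : x + x = 0 := by
            refine Prod.ext (T.two_F _) (Prod.ext (T.two_F _) (T.two_F _))
          exact neg_eq_of_add_eq_zero_left h3
        rw [h2, hx] }
  have hW : W₀ = ⊤ := by
    refine Weights.span (q := Nat.card k) (by rw [← T.card, Nat.card_eq_fintype_card]) (exists_two_pow k) T.four
      W₀ ?_ ?_
    · intro α x hx'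
      obtain ⟨a, ha, h⟩ := exists_a_em D I hx hne N HA Fd α
      have haN := LL_NR D I (A_LL D HA ha)
      change D.rho s _ = _ at hx'
      change D.rho s _ = _
      rw [← h, ← D.rho_mul I hsN haN, ← hc a ha, D.rho_mul I haN hsN, hx', h]
      congr 1
      refine Prod.ext ?_ (Prod.ext ?_ ?_)
      · change (α : F) * (l.1 * x.1) = l.1 * ((α : F) * x.1)
        ring
      · change (α : F) ^ (Nat.card k - 1) * (l.2.1 * x.2.1) = l.2.1 * ((α : F) ^ (Nat.card k - 1) * x.2.1)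
        ring
      · change ((α⁻¹ : Fˣ) : F) ^ Nat.card k * (l.2.2 * x.2.2) = l.2.2 * (((α⁻¹ : Fˣ) : F) ^ Nat.card k * x.2.2)
        ring
    · change D.rho s _ = _
      rw [← hl]
      congr 1
      exact (mul_one l).symm
  have hdiag : ∀ x : F × F × F, D.rho s (em (w (v 0 1 0)) f₀ ι x₀ x) = em (w (v 0 1 0)) f₀ ι x₀ (l * x) := by
    intro x
    have : x ∈ W₀ := by rw [hW]; trivial
    exact this
  have hpow : ∀ (j : ℕ) (x : F × F × F), D.rho (s ^ j) (em (w (v 0 1 0)) f₀ ι x₀ x) =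
      em (w (v 0 1 0)) f₀ ι x₀ (l ^ j * x) := by
    intro j
    induction j with
    | zero => intro x; rw [pow_zero, pow_zero, D.rho_one I, one_mul]
    | succ j ih => intro x; rw [pow_succ, D.rho_mul I (pow_mem hsN j) hsN, hdiag, ih, ← mul_assoc, ← pow_succ]
  obtain ⟨m, hm⟩ := S.isPGroup' ⟨s, hs⟩
  have hm' : s ^ 2 ^ m = 1 := congrArg (fun z : (S : Subgroup G) => (z : G)) hm
  have h1 := hpow (2 ^ m) 1
  rw [hm', D.rho_one I, mul_one] at h1
  have h2 := (em_inj D hne h1).symm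
  have hl1 : l = 1 := by
    refine Prod.ext ?_ (Prod.ext ?_ ?_)
    · exact eq_one_of_pow (m := m) (by have := congrArg Prod.fst h2; exact this)
    · exact eq_one_of_pow (m := m) (by have := congrArg (fun z => z.2.1) h2; exact this)
    · exact eq_one_of_pow (m := m) (by have := congrArg (fun z => z.2.2) h2; exact this)
  have hsQ : s ∈ Q := by
    apply D.mem_Q_of_rho I hsN
    intro m
    obtain ⟨x, rfl⟩ := em_surj D hx m
    rw [hdiag, hl1, one_mul]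
  -- `w s` is fixed by `A`
  obtain ⟨x, hxs⟩ := em_surj D hx (w s)
  have hfix : ∀ α : Fˣ, Weights.act (Nat.card k) α x = x := by
    intro α
    obtain ⟨a, ha, h⟩ := exists_a_em D I hx hne N HA Fd α
    have haN := LL_NR D I (A_LL D HA ha)
    apply em_inj D hne
    rw [← h, hxs, D.rho_w I haN hsQ]
    have e : a * s * a⁻¹ = s := by rw [hc a ha]; group
    rw [e]
  obtain ⟨θ, hθ⟩ := T.exists_sg_ne
  have hθ0 : θ ≠ 0 := by
    rintro rfl
    exact hθ (map_zero _)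
  have hθ1 : θ ≠ 1 := by
    rintro rfl
    exact hθ (map_one _)
  have h5 := hfix (Units.mk0 θ hθ0)
  have e1 : x.1 = 0 := by
    have h6 := congrArg Prod.fst h5
    change θ * x.1 = x.1 at h6
    have h7 : (θ - 1) * x.1 = 0 := by rw [sub_mul, h6, one_mul, sub_self]
    exact (mul_eq_zero.1 h7).resolve_left (sub_ne_zero.2 hθ1)
  have e3 : x.2.2 = 0 := by
    have h6 := congrArg (fun z => z.2.2) h5
    change ((Units.mk0 θ hθ0)⁻¹ : Fˣ).val ^ Nat.card k * x.2.2 = x.2.2 at h6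
    rw [Units.val_inv_eq_inv_val, inv_pow, Units.val_mk0, ← T.sg_pow] at h6
    have h7 : ((T.sg θ)⁻¹ - 1) * x.2.2 = 0 := by rw [sub_mul, h6, one_mul, sub_self]
    refine (mul_eq_zero.1 h7).resolve_left (sub_ne_zero.2 ?_)
    intro h8
    have h9 := inv_eq_one.1 h8
    apply hθ1
    rw [← T.sg_sg θ, h9, map_one]
  have e2 : x.2.1 = 0 := by
    have h6 := congrArg (fun z => z.2.1) h5
    change θ ^ (Nat.card k - 1) * x.2.1 = x.2.1 at h6
    have hq : 1 ≤ Nat.card k := by have := T.four; omega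
    have h8 : θ ^ (Nat.card k - 1) * θ = T.sg θ := by
      rw [T.sg_pow, ← pow_succ, Nat.sub_add_cancel hq]
    have h9 : (T.sg θ - θ) * x.2.1 = 0 := by
      rw [← h8]
      linear_combination θ * h6
    exact (mul_eq_zero.1 h9).resolve_left (sub_ne_zero.2 hθ)
  rw [← D.w_eq s hsQ, ← hxs]
  have : x = 0 := Prod.ext e1 (Prod.ext e2 e3)
  rw [this, em0]

end

end Cfsg.Agent.RankTwoClose.UFive.LSide

end

section


/-!
# `U₅(q)`: the side `L` from THEOREM UNI: all fields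

`LSide S L U Q V R A n₀ w₀` = the fields of `QInput.QIn` which do not mention `X` and `O`;
`exists_LSide` : `Out`, `GIn`, `Fld` and `dim Φ = 1` give it with `L = LL V R Q Q'` (the group generated by all
`N_G(R)`-conjugates of `U`), `U = UU V Q Q' = Q C_{Q'}(V)`.
-/

set_option autoImplicit false
set_option linter.unusedSectionVars false

open Subgroup

namespace Cfsg.Agent.RankTwoClose.UFive.LSide

open Cfsg.Agent.Omega.NOne.SU
open Cfsg.Agent.RankTwoClose.UFour (cj mem_norm_iff)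

variable {G : Type*} [Group G] {k F : Type*} [Field k] [Field F] [Algebra k F]

/-- The fields of `QInput.QIn` of the side `L`. -/
structure LSide (S : Sylow 2 G) (L U Q V R A : Subgroup G) (n₀ w₀ : G) : Prop where
  aL : PanOf.Abs L U Q n₀
  sL : ∀ P ≤ L, IsPGroup 2 P → U ≤ P → P ≤ U
  US : U ≤ S
  SL : ∀ s ∈ S, ∀ l ∈ L, s * l * s⁻¹ ∈ L
  NL : normalizer (R : Set G) ≤ normalizer (L : Set G)
  LV : ∀ g ∈ L, cj g U = U → cj g V = V
  /-- `N(R) ∩ N(V)` normalises `U` -/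
  NU : ∀ g ∈ normalizer (R : Set G), g ∈ normalizer (V : Set G) → cj g U = U
  /-- `N(R) ∩ N(U)` normalises `V` -/
  NV : ∀ g ∈ normalizer (R : Set G), cj g U = U → cj g V = V
  /-- `N(R) = L (N(R) ∩ N(U))` -/
  tr : ∀ g ∈ normalizer (R : Set G), ∃ l ∈ L, cj (l⁻¹ * g) U = U
  VU : V ≤ U
  LR : ∀ l ∈ L, ∀ z ∈ R, l * z = z * l
  comm : ⁅Q, Q⁆ = R
  sq : ∀ x ∈ Q, x * x ∈ R
  irr : ∀ N ≤ Q, (∀ l ∈ L, ∀ x ∈ N, l * x * l⁻¹ ∈ N) → N ≤ R ∨ Q ≤ N ⊔ R
  opp : ∀ x ∈ V ⊓ Q, (∀ y ∈ cj n₀ (V ⊓ Q), x * y = y * x) → x ∈ R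
  cD : Q.relIndex U ≤ Nat.card ↥((Q ⊓ centralizer (V : Set G)) ⊓ cj n₀ (Q ⊓ centralizer (V : Set G)))
  ruling : ∀ x ∈ V, x ∉ Q → ∃ y ∈ cj n₀ V, cj (x * y * x) (cj n₀ U) = U
  AL : A ≤ L
  AU : A ≤ normalizer (U : Set G)
  Aodd : Odd (Nat.card A)
  Aab : ∀ a ∈ A, ∀ b ∈ A, a * b = b * a
  AB : ∀ g ∈ L, cj g U = U → g ∈ U ⊔ A
  wQ : w₀ ∈ Q
  cyc : Q ≤ closure {x | ∃ a ∈ A, x = a * w₀ * a⁻¹} ⊔ R
  cent : ∀ s ∈ S, (∀ a ∈ A, a * s = s * a) → s ∈ R

variable {T : Quad k F} {S : Sylow 2 G} {V R Q Q' : Subgroup G} {v : k → F → k → G} {p p' : G → F}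
    {Φ : Type*} [AddCommGroup Φ] [Module F Φ] {φ χ : G → Φ} {hm : Φ → Φ → F}
    {W : Type*} [AddCommGroup W] [Module F W] {w : G → W} {g : W → W → F} {f₀ : W}
    {ι : Φ →ₗ[F] W}

/-- **The side `L`**: `dim Φ = 1`. -/
theorem exists_LSide [Finite G] (D : Out T V R Q Q' v p φ χ hm w g f₀ ι) (I : GIn T S V R Q Q' v p p')
    (Fd : Fld T V R Q Q' v p φ χ) (h1 : Module.finrank F Φ = 1) :
    ∃ (A : Subgroup G) (n₀ w₀ : G), LSide S (LL V R Q Q') (UU V Q Q') Q V R A n₀ w₀ := by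
  have hk2 : CharP k 2 := CharTwo.of_one_ne_zero_of_two_eq_zero one_ne_zero I.h2
  obtain ⟨x₀, hne, hx'⟩ := finrank_eq_one_iff'.1 h1
  have hx : ∀ x : Φ, ∃ s : F, x = s • x₀ := fun x => by
    obtain ⟨s, hs⟩ := hx' x
    exact ⟨s, hs.symm⟩
  obtain ⟨n₀, N⟩ := exists_sw D I
  obtain ⟨A, HA⟩ := exists_A D I hx hne N Fd
  obtain ⟨w₀, hw₀, hcyc⟩ := cyc D I hx hne N HA Fd
  refine ⟨A, n₀, w₀, ?_⟩
  exact
    { aL := abs D I hx hne N Fd
      sL := sylow_LL D I hx hne N Fd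
      US := US D I
      SL := SL I
      NL := NR_le_NLL V R Q Q'
      LV := LNV D I Fd
      NU := fun g h1 h2 => norm_of_NV D I h1 h2
      NV := by
        intro c hN h
        obtain ⟨s, hs⟩ := stab_of_norm D I Fd hN h
        apply mem_norm_iff.1
        apply D.stab c hN
        exact ⟨s, by rw [← hs, D.rho_w I hN (I.E_le _ _)]⟩
      tr := by
        intro c hN
        rcases move D I hx N Fd hN with h | ⟨u, hu, h⟩
        · exact ⟨1, one_mem _, by rw [inv_one, one_mul]; exact h⟩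
        · refine ⟨u * n₀, mul_mem (UU_le_LL V R Q Q' hu) N.mem, ?_⟩
          rw [UFour.cj_mul, h, UFour.cj_inv_cj]
      VU := V_le_UU I
      LR := LR D I
      comm := comm_Q D I
      sq := sq_Q D
      irr := irr D I hx hne N Fd
      opp := opp D I N
      cD := cD D I N
      ruling := ruling D I N
      AL := A_LL D HA
      AU := A_norm D HA
      Aodd := HA.odd
      Aab := A_comm D I hx hne N HA Fd
      AB := fun g hg h => norm_le D I hx hne N HA Fd hg h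
      wQ := hw₀
      cyc := hcyc
      cent := cent D I hx hne N HA Fd }

end Cfsg.Agent.RankTwoClose.UFive.LSide

end

end

-- merged: Cfsg.Agent.Mrg.RankTwoClose.XSide.Main
section

section


/-!
# The group `X = ⟨Q, Q'⟩` (type beta): `X` as a rank one group

`CQ = C_Q(V)`, `CQ' = C_{Q'}(V)`, `OX = CQ CQ'`, `UX = Q CQ'`.  `C_X(V) = OX`; `X` is a rank one group
(`PanOf.Abs`) with `O₂(X) = OX` and Sylow `2`-subgroup `UX`.
-/

set_option autoImplicit false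
set_option linter.unusedSectionVars false

open Subgroup

namespace Cfsg.Agent.RankTwoClose.XSide

open Cfsg.Agent.Omega.NOne.SU Cfsg.Agent.RankTwoClose.UFour

variable {G : Type*} [Group G] {k F : Type*} [Field k] [Field F] [Algebra k F]

/-- `O₂(X)` -/
abbrev OX (V Q Q' : Subgroup G) : Subgroup G :=
  (Q ⊓ centralizer (V : Set G)) ⊔ (Q' ⊓ centralizer (V : Set G))

/-- the Sylow `2`-subgroup of `X` -/
abbrev UX (V Q Q' : Subgroup G) : Subgroup G := Q ⊔ (Q' ⊓ centralizer (V : Set G))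

section basic

variable {T : Quad k F} {S : Sylow 2 G} {V R Q Q' : Subgroup G} {v : k → F → k → G} {p p' : G → F}
  (I : GIn T S V R Q Q' v p p')
include I

theorem CV_norm_Q : centralizer (V : Set G) ≤ normalizer (Q : Set G) := by
  intro c hc
  rw [mem_normalizer_iff]
  intro y
  refine ⟨CV_Q I hc, fun h => ?_⟩
  have := CV_Q I (inv_mem hc) h
  rwa [show c⁻¹ * (c * y * c⁻¹) * c⁻¹⁻¹ = y by group] at this

theorem mem_UX {u : G} : u ∈ UX V Q Q' ↔ ∃ y ∈ Q, ∃ b ∈ Q' ⊓ centralizer (V : Set G), u = y * b := by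
  constructor
  · intro hu
    have hu' : u ∈ (Q' ⊓ centralizer (V : Set G)) ⊔ Q := by rw [sup_comm]; exact hu
    obtain ⟨b, hb, y, hy, rfl⟩ := mem_sup_norm (inf_le_right.trans (CV_norm_Q I)) hu'
    exact ⟨b * y * b⁻¹, CV_Q I (mem_inf.1 hb).2 hy, b, hb, by group⟩
  · rintro ⟨y, hy, b, hb, rfl⟩
    exact mul_mem (mem_sup_left hy) (mem_sup_right hb)

theorem CQ'_norm : Q' ⊓ centralizer (V : Set G) ≤
    normalizer ((Q ⊓ centralizer (V : Set G) : Subgroup G) : Set G) := fun b hb =>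
  norm_inf (CV_norm_Q I (mem_inf.1 hb).2) (le_normalizer (mem_inf.1 hb).2)

theorem mem_OX {u : G} : u ∈ OX V Q Q' ↔ ∃ a ∈ Q ⊓ centralizer (V : Set G),
    ∃ b ∈ Q' ⊓ centralizer (V : Set G), u = a * b := by
  constructor
  · intro hu
    have hu' : u ∈ (Q' ⊓ centralizer (V : Set G)) ⊔ (Q ⊓ centralizer (V : Set G)) := by
      rw [sup_comm]; exact hu
    obtain ⟨b, hb, y, hy, rfl⟩ := mem_sup_norm (CQ'_norm I) hu'
    exact ⟨b * y * b⁻¹, conj_mem (CQ'_norm I hb) hy, b, hb, by group⟩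
  · rintro ⟨y, hy, b, hb, rfl⟩
    exact mul_mem (mem_sup_left hy) (mem_sup_right hb)

theorem OX_le_UX : OX V Q Q' ≤ UX V Q Q' := sup_le_sup_right inf_le_left _

theorem OX_le_CV : OX V Q Q' ≤ centralizer (V : Set G) := sup_le inf_le_right inf_le_right

theorem V_le_OX : V ≤ OX V Q Q' := by
  intro z hz
  obtain ⟨e, he, e', he', h1, h2, rfl⟩ := split_V I hz
  exact mul_mem (mem_sup_left (mem_inf.2 ⟨he, I.V_CV h1⟩)) (mem_sup_right (mem_inf.2 ⟨he', I.V_CV h2⟩))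

theorem UX_le_X : UX V Q Q' ≤ Q ⊔ Q' := sup_le_sup_left inf_le_left _

theorem UX_le_NR : UX V Q Q' ≤ normalizer (R : Set G) :=
  sup_le I.Q_NR (inf_le_right.trans (CV_NR I))

/-- `C_U(V) = OX` -/
theorem mem_OX_of {u : G} (hu : u ∈ UX V Q Q') (hV : u ∈ centralizer (V : Set G)) : u ∈ OX V Q Q' := by
  obtain ⟨y, hy, b, hb, rfl⟩ := (mem_UX I).1 hu
  have h1 : y ∈ centralizer (V : Set G) := by
    have := mul_mem hV (inv_mem (mem_inf.1 hb).2)
    rwa [mul_inv_cancel_right] at this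
  exact mul_mem (mem_sup_left (mem_inf.2 ⟨hy, h1⟩)) (mem_sup_right hb)

end basic

section out

variable {T : Quad k F} {S : Sylow 2 G} {V R Q Q' : Subgroup G} {v : k → F → k → G} {p p' : G → F}
  {Φ : Type*} [AddCommGroup Φ] [Module F Φ] {φ χ : G → Φ}
  (I : GIn T S V R Q Q' v p p') (D : Fld T V R Q Q' v p φ χ) (Ex : Ext V R Q Q' p')

theorem X_OX [Finite G] (I : GIn T S V R Q Q' v p p') (D : Fld T V R Q Q' v p φ χ)
    (Ex : Ext V R Q Q' p') : Q ⊔ Q' ≤ normalizer ((OX V Q Q' : Subgroup G) : Set G) := by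
  intro x hx
  refine Central.mem_norm_of fun u hu => ?_
  obtain ⟨a, ha, b, hb, rfl⟩ := (mem_OX I).1 hu
  obtain ⟨A, -, -, hA⟩ := exists_mat I D Ex hx
  obtain ⟨a', ha', haV', b', hb', hbV', z, hz, e, -, -⟩ :=
    hA a (mem_inf.1 ha).1 (mem_inf.1 ha).2 b (mem_inf.1 hb).1 (mem_inf.1 hb).2
  rw [e]
  exact mul_mem (V_le_OX I hz) (mul_mem (mem_sup_left (mem_inf.2 ⟨ha', haV'⟩))
    (mem_sup_right (mem_inf.2 ⟨hb', hbV'⟩)))

/-- **`C_X(V) ≤ O₂(X)`** -/
theorem CX_le [Finite G] {hm : Φ → Φ → F} {W : Type*} [AddCommGroup W] [Module F W] {w : G → W}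
    {g : W → W → F} {f₀ : W} {ι : Φ →ₗ[F] W} (O : Out T V R Q Q' v p φ χ hm w g f₀ ι)
    (I : GIn T S V R Q Q' v p p') (D : Fld T V R Q Q' v p φ χ) (Ex : Ext V R Q Q' p') {x : G}
    (hx : x ∈ Q ⊔ Q') (hxV : x ∈ centralizer (V : Set G)) : x ∈ OX V Q Q' := by
  obtain ⟨A, hd, hA1, hA2⟩ := exists_mat I D Ex hx
  obtain rfl := VAct.eq_one I hA1 hd hxV
  have hxR : x ∈ centralizer (R : Set G) := I.CV_le_CR hxV
  have hxN := I.CR_NR hxR
  have hfix : ∀ z ∈ V, x * z * x⁻¹ = z := fun z hz => by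
    rw [← mem_centralizer_iff.1 hxV z hz]; group
  obtain ⟨n, hn, hnV, d, y, hy, e⟩ := O.rad x hxR (fun b => by rw [hfix _ (I.v_mem _ _ _)])
    (fun a ha h0 => by
      rw [← O.p_eq a ha] at h0
      have haV := (I.p_eq_zero ha).1 h0
      obtain ⟨a', ha', haV', b', hb', hbV', z, hz, e, e1, e2⟩ := hA2 a ha haV 1 (one_mem _) (one_mem _)
      have hc : x * a * x⁻¹ ∈ Q := I.nor x hxN a ha
      have hcV : x * a * x⁻¹ ∈ centralizer (V : Set G) := mul_mem (mul_mem hxV haV) (inv_mem hxV)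
      obtain ⟨h1, -⟩ := φχ_congr I D hc hcV ha' haV' (one_mem _) (one_mem _) hb' hbV' hz
        (by rw [mul_one, ← e, mul_one])
      rw [e1] at h1
      simp only [Matrix.one_apply_eq, one_smul, χ_one I D, smul_zero, add_zero] at h1
      have h2 : x * a * x⁻¹ * a⁻¹ ∈ Q := mul_mem hc (inv_mem ha)
      have h3 : x * a * x⁻¹ * a⁻¹ ∈ centralizer (V : Set G) := mul_mem hcV (inv_mem haV)
      have h4 : φ (x * a * x⁻¹ * a⁻¹) = 0 := by
        rw [D.φ_add _ hc hcV _ (inv_mem ha) (inv_mem haV), φ_inv I D ha haV, h1]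
        nth_rewrite 1 [← neg_Φ I D (φ a)]
        exact neg_add_cancel _
      obtain ⟨a'', b'', e3⟩ := (D.φ_ker _ h2 h3).1 h4
      refine ⟨b'', ?_⟩
      have e4 : x * a * x⁻¹ = v a'' b'' 0 * a := by rw [← e3]; group
      rw [e4, O.w_mul _ (I.E_le _ _) _ ha, O.w_v I, O.w_e b'', add_comm])
    (fun a ha => by
      have hc : x * a * x⁻¹ ∈ Q := I.nor x hxN a ha
      rw [← O.p_eq a ha, ← O.p_eq _ hc]
      have h1 : x * a * x⁻¹ * a⁻¹ ∈ centralizer (V : Set G) := by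
        have e5 : x * a * x⁻¹ * a⁻¹ = x * (a * x⁻¹ * a⁻¹) := by group
        rw [e5]
        exact mul_mem hxV (cen_conj I (I.Q_NV ha) (inv_mem hxV))
      have h2 := (I.p_eq_zero (mul_mem hc (inv_mem ha))).2 h1
      rw [I.p_add _ hc _ (inv_mem ha), I.p_inv ha] at h2
      calc p (x * a * x⁻¹) = p (x * a * x⁻¹) + (p a + p a) := by
            rw [T.add_self (h2 := I.h2), add_zero]
        _ = (p (x * a * x⁻¹) + p a) + p a := by ring
        _ = p a := by rw [h2, zero_add])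
  have hyV : y ∈ centralizer (V : Set G) := by
    have : y = (n * v 0 0 d)⁻¹ * x := by rw [e]; group
    rw [this]
    exact mul_mem (inv_mem (mul_mem hnV (I.V_CV (I.v_mem _ _ _)))) hxV
  rw [e]
  exact mul_mem (mul_mem (mem_sup_right (mem_inf.2 ⟨hn, hnV⟩)) (V_le_OX I (I.v_mem _ _ _)))
    (mem_sup_left (mem_inf.2 ⟨hy, hyV⟩))

end out

end Cfsg.Agent.RankTwoClose.XSide

end

section


/-!
# The group `X = ⟨Q, Q'⟩` (type beta): the points, the reflection `m₀`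
-/

set_option autoImplicit false
set_option linter.unusedSectionVars false

open Subgroup

namespace Cfsg.Agent.RankTwoClose.XSide

open Cfsg.Agent.Omega.NOne.SU Cfsg.Agent.RankTwoClose.UFour

variable {G : Type*} [Group G] {k F : Type*} [Field k] [Field F] [Algebra k F]

/-- The reflection. -/
structure Mz (T : Quad k F) (v : k → F → k → G) (Q Q' : Subgroup G) (m₀ : G) : Prop where
  mem : m₀ ∈ Q ⊔ Q'
  act : ∀ a b d, m₀ * v a b d * m₀⁻¹ = v d (T.sg b) a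

section gin

variable {T : Quad k F} {S : Sylow 2 G} {V R Q Q' : Subgroup G} {v : k → F → k → G} {p p' : G → F}
  (I : GIn T S V R Q Q' v p p')

theorem exists_mz (I : GIn T S V R Q Q' v p p') (Ex : Ext V R Q Q' p') : ∃ m₀, Mz T v Q Q' m₀ := by
  obtain ⟨y, hy, hpy⟩ := I.p_surj 1
  obtain ⟨z, hz, hpz⟩ := Ex.p'_surj 1
  refine ⟨y * z * y, mul_mem (mul_mem (mem_sup_left hy) (mem_sup_right hz)) (mem_sup_left hy), ?_⟩
  intro a b d
  have h1 := ((VAct_Q I hy).mul (VAct_Q' I hz)).mul (VAct_Q I hy)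
  obtain ⟨a', b', d', e1, e2⟩ := h1 a b d
  rw [e1]
  rw [hpy, hpz] at e2
  unfold mu st at e2
  have h2 := I.h2
  have two := T.twoF h2
  have e3 := congrFun (congrFun e2 0) 0
  have e4 := congrFun (congrFun e2 0) 1
  have e5 := congrFun (congrFun e2 1) 1
  have o2 : (1 : F) + 1 = 0 := T.add_self (h2 := h2) 1
  simp [Matrix.mul_apply, Fin.sum_univ_two, o2] at e3 e4 e5
  rw [e3, e4, e5]

variable {m₀ : G} (M : Mz T v Q Q' m₀)
include I M

theorem Mz.inv_act (a : k) (b : F) (d : k) : m₀⁻¹ * v a b d * m₀ = v d (T.sg b) a := by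
  have _ := I.h2
  have h := M.act d (T.sg b) a
  rw [T.sg_sg] at h
  rw [← h]; group

theorem Mz.NV : m₀ ∈ normalizer (V : Set G) := X_NV I M.mem

/-- `m₀² ∈ C(V)` -/
theorem Mz.sq : m₀ * m₀ ∈ centralizer (V : Set G) := by
  rw [mem_centralizer_iff]
  intro z hz
  obtain ⟨a, b, d, rfl⟩ := I.v_surj z hz
  have h1 : (m₀ * m₀) * v a b d * (m₀ * m₀)⁻¹ = v a b d := by
    calc (m₀ * m₀) * v a b d * (m₀ * m₀)⁻¹ = m₀ * (m₀ * v a b d * m₀⁻¹) * m₀⁻¹ := by group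
      _ = v a b d := by rw [M.act, M.act, T.sg_sg]
  calc v a b d * (m₀ * m₀) = (m₀ * m₀) * v a b d * (m₀ * m₀)⁻¹ * (m₀ * m₀) := by rw [h1]
    _ = _ := by group

/-- `m₀` does not normalise `R` -/
theorem Mz.not_NR : m₀ ∉ normalizer (R : Set G) := by
  intro h
  have h1 := (mem_normalizer_iff.1 h _).1 (I.sp.a_mem 1)
  rw [M.act] at h1
  obtain ⟨a, e⟩ := I.mem_R.1 h1
  exact one_ne_zero (I.v_eq e).2.2

omit M in
/-- the normaliser of `R` in `N(V)`, elementwise -/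
theorem mem_NR_of {x : G} (h : ∀ a, ∃ a', x * v a 0 0 * x⁻¹ = v a' 0 0) : x ∈ normalizer (R : Set G) := by
  have := T.fink
  have h1 : ∀ r ∈ R, x * r * x⁻¹ ∈ R := by
    intro r hr
    obtain ⟨a, rfl⟩ := I.mem_R.1 hr
    obtain ⟨a', e⟩ := h a
    rw [e]; exact I.sp.a_mem a'
  have hfin : Finite R := by
    have hs : Function.Surjective (fun a : k => (⟨v a 0 0, I.sp.a_mem a⟩ : R)) := by
      rintro ⟨r, hr⟩
      obtain ⟨a, rfl⟩ := I.mem_R.1 hr
      exact ⟨a, rfl⟩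
    exact Finite.of_surjective _ hs
  let f : R → R := fun r => ⟨x * r * x⁻¹, h1 r r.2⟩
  have hf : Function.Injective f := by
    intro r r' hrr
    have e : x * (r : G) * x⁻¹ = x * r' * x⁻¹ := congrArg Subtype.val hrr
    exact Subtype.ext (mul_left_cancel (mul_right_cancel e))
  have hf' := Finite.surjective_of_injective hf
  rw [mem_normalizer_iff]
  intro r
  refine ⟨h1 r, fun hr => ?_⟩
  obtain ⟨r', hr'⟩ := hf' ⟨_, hr⟩
  have e : x * (r' : G) * x⁻¹ = x * r * x⁻¹ := congrArg Subtype.val hr'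
  have e2 : (r' : G) = r := mul_left_cancel (mul_right_cancel e)
  rw [← e2]; exact r'.2

omit M in
/-- `C_V(Q) = R` -/
theorem CVQ {z : G} (hz : z ∈ V) (h : ∀ y ∈ Q, y * z = z * y) : z ∈ R := by
  obtain ⟨a, b, d, rfl⟩ := I.v_surj z hz
  have h0 : ∀ l : F, T.tr (T.sg l * b) + T.nm l * d = 0 ∧ l * algebraMap k F d = 0 := by
    intro l
    obtain ⟨y, hy, hp⟩ := I.p_surj l
    have h1 : y * v a b d * y⁻¹ = v a b d := by rw [h y hy]; group
    rw [I.act y hy, hp] at h1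
    obtain ⟨h2, h3, -⟩ := I.v_eq h1
    constructor
    · rw [add_assoc] at h2
      exact left_eq_add.1 h2.symm
    · exact left_eq_add.1 h3.symm
  have hd : d = 0 := by
    have := (h0 1).2
    rw [one_mul] at this
    exact (map_eq_zero (algebraMap k F)).1 this
  have hb : b = 0 := by
    apply T.eq_zero_of_tr I.h2
    intro l
    have := (h0 (T.sg l)).1
    rw [hd, mul_zero, add_zero, T.sg_sg] at this
    rwa [mul_comm]
  rw [hb, hd]
  exact I.sp.a_mem a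

omit M in
/-- an element of `N(V)` which normalises `UX` normalises `R` -/
theorem NR_of_UX {x : G} (hxV : x ∈ normalizer (V : Set G)) (hx : cj x (UX V Q Q') = UX V Q Q') :
    x ∈ normalizer (R : Set G) := by
  -- `R = C_V(UX)`
  have hR : ∀ z, z ∈ R ↔ z ∈ V ∧ ∀ u ∈ UX V Q Q', u * z = z * u := by
    intro z
    constructor
    · intro hz
      refine ⟨I.R_V hz, fun u hu => ?_⟩
      obtain ⟨y, hy, b, hb, rfl⟩ := (mem_UX I).1 hu
      have h1 := I.sp.cen z hz y hy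
      have h2 := mem_centralizer_iff.1 (mem_inf.1 hb).2 z (I.R_V hz)
      rw [mul_assoc, ← h2, ← mul_assoc, ← h1, mul_assoc]
    · rintro ⟨hz, h⟩
      exact CVQ I hz fun y hy => h y (mem_sup_left hy)
  have key : ∀ x ∈ normalizer (V : Set G), cj x (UX V Q Q') = UX V Q Q' → ∀ z ∈ R, x * z * x⁻¹ ∈ R := by
    intro x hxV hx z hz
    obtain ⟨h1, h2⟩ := (hR z).1 hz
    refine (hR _).2 ⟨(mem_normalizer_iff.1 hxV _).1 h1, fun u hu => ?_⟩
    rw [← hx, mem_cj] at hu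
    have h3 := h2 _ hu
    calc u * (x * z * x⁻¹) = x * ((x⁻¹ * u * x) * z) * x⁻¹ := by group
      _ = x * (z * (x⁻¹ * u * x)) * x⁻¹ := by rw [h3]
      _ = x * z * x⁻¹ * u := by group
  rw [mem_normalizer_iff]
  intro z
  refine ⟨key x hxV hx z, fun hz => ?_⟩
  have hx' : cj x⁻¹ (UX V Q Q') = UX V Q Q' := by
    have := congrArg (cj x⁻¹) hx
    rw [cj_inv_cj] at this
    exact this.symm
  have := key x⁻¹ (inv_mem hxV) hx' _ hz
  rwa [show x⁻¹ * (x * z * x⁻¹) * x⁻¹⁻¹ = z by group] at this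

end gin

section fld

variable {T : Quad k F} {S : Sylow 2 G} {V R Q Q' : Subgroup G} {v : k → F → k → G} {p p' : G → F}
  {Φ : Type*} [AddCommGroup Φ] [Module F Φ] {φ χ : G → Φ} [Finite G]
  (I : GIn T S V R Q Q' v p p') (D : Fld T V R Q Q' v p φ χ) (Ex : Ext V R Q Q' p')
include I D Ex

/-- `N_X(R)` normalises `UX` -/
theorem UX_of_NR {x : G} (hx : x ∈ Q ⊔ Q') (hR : x ∈ normalizer (R : Set G)) :
    cj x (UX V Q Q') = UX V Q Q' := by
  have h1 : UX V Q Q' = Q ⊔ OX V Q Q' := by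
    refine le_antisymm (sup_le_sup_left le_sup_right _) (sup_le le_sup_left (OX_le_UX I))
  have hQ : cj x Q = Q := by
    rw [← mem_norm_iff, mem_normalizer_iff]
    intro y
    refine ⟨I.nor x hR y, fun h => ?_⟩
    have := I.nor x⁻¹ (inv_mem hR) _ h
    rwa [show x⁻¹ * (x * y * x⁻¹) * x⁻¹⁻¹ = y by group] at this
  rw [h1, cj_sup, hQ, mem_norm_iff.1 (X_OX I D Ex hx)]

theorem UX_iff {x : G} (hx : x ∈ Q ⊔ Q') :
    cj x (UX V Q Q') = UX V Q Q' ↔ x ∈ normalizer (R : Set G) :=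
  ⟨NR_of_UX I (X_NV I hx), UX_of_NR I D Ex hx⟩

variable {m₀ : G} (M : Mz T v Q Q' m₀)
include M

/-- **the positions**: `x ∈ X` either normalises `R` or is in `Q m₀ N_X(R)` -/
theorem pos {x : G} (hx : x ∈ Q ⊔ Q') :
    x ∈ normalizer (R : Set G) ∨ ∃ y ∈ Q, ∃ x' ∈ Q ⊔ Q', x' ∈ normalizer (R : Set G) ∧ x = y * m₀ * x' := by
  obtain ⟨A, hA, hA1, -⟩ := exists_mat I D Ex hx
  -- the action on `R`
  have key : ∀ a, x * v a 0 0 * x⁻¹ = v (T.nm (A 0 0) * a) (A 0 0 * T.sg (A 1 0) * algebraMap k F a)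
      (T.nm (A 1 0) * a) := by
    intro a
    obtain ⟨a', b', d', e1, e2⟩ := hA1 a 0 0
    rw [e1]
    unfold mu st at e2
    have e3 := congrFun (congrFun e2 0) 0
    have e4 := congrFun (congrFun e2 0) 1
    have e5 := congrFun (congrFun e2 1) 1
    simp [Matrix.mul_apply, Fin.sum_univ_two] at e3 e4 e5
    congr 1
    · apply T.alg_inj'
      rw [e3, map_mul, T.nm_eq]; ring
    · rw [e4]; ring
    · apply T.alg_inj'
      rw [e5, map_mul, T.nm_eq]; ring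
  by_cases hγ : A 1 0 = 0
  · left
    refine mem_NR_of I fun a => ⟨T.nm (A 0 0) * a, ?_⟩
    rw [key, hγ, map_zero, mul_zero, zero_mul, T.nm_zero, zero_mul]
  · right
    obtain ⟨y, hy, hpy⟩ := I.p_surj (A 0 0 / A 1 0)
    refine ⟨y⁻¹, inv_mem hy, m₀⁻¹ * (y * x), mul_mem (inv_mem M.mem) (mul_mem (mem_sup_left hy) hx), ?_,
      by group⟩
    refine mem_NR_of I fun a => ⟨T.nm (A 1 0) * a, ?_⟩
    have hs : T.sg (A 1 0) ≠ 0 := T.sg_ne' hγ
    have e1 : y * (x * v a 0 0 * x⁻¹) * y⁻¹ = v 0 0 (T.nm (A 1 0) * a) := by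
      rw [key, I.act y hy, hpy]
      congr 1
      · have h1 : T.sg (A 0 0 / A 1 0) * (A 0 0 * T.sg (A 1 0) * algebraMap k F a) =
            algebraMap k F (T.nm (A 0 0) * a) := by
          rw [map_div₀, map_mul, T.nm_eq]
          field_simp
        have h2 : T.nm (A 0 0 / A 1 0) * (T.nm (A 1 0) * a) = T.nm (A 0 0) * a := by
          rw [← mul_assoc, ← T.nm_mul, div_mul_cancel₀ _ hγ]
        rw [h1, h2, T.tr_alg I.h2, add_zero, T.add_selfk (h2 := I.h2)]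
      · have h1 : A 0 0 / A 1 0 * algebraMap k F (T.nm (A 1 0) * a) =
            A 0 0 * T.sg (A 1 0) * algebraMap k F a := by
          rw [map_mul, T.nm_eq]
          field_simp
        rw [h1, T.add_self (h2 := I.h2)]
    have e2 : m₀⁻¹ * (y * x) * v a 0 0 * (m₀⁻¹ * (y * x))⁻¹ = m₀⁻¹ * (y * (x * v a 0 0 * x⁻¹) * y⁻¹) * m₀ := by
      group
    rw [e2, e1, M.inv_act I, map_zero]

/-- `X` moves `UX`: the form of `x` -/
theorem form_of {x : G} (hx : x ∈ Q ⊔ Q') (hne : cj x (UX V Q Q') ≠ UX V Q Q') :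
    ∃ y ∈ Q, ∃ x' ∈ Q ⊔ Q', x' ∈ normalizer (R : Set G) ∧ x = y * m₀ * x' := by
  rcases pos I D Ex M hx with h | h
  · exact absurd (UX_of_NR I D Ex hx h) hne
  · exact h

theorem m₀_ne : cj m₀ (UX V Q Q') ≠ UX V Q Q' := fun h =>
  M.not_NR I (NR_of_UX I (M.NV I) h)

/-- `m₀ Q m₀⁻¹ ≤ Q'` -/
theorem m₀_Q : ∀ y ∈ Q, m₀ * y * m₀⁻¹ ∈ Q' :=
  exists_n I D Ex M.mem fun a => ⟨a, by rw [M.act, map_zero]⟩

end fld

end Cfsg.Agent.RankTwoClose.XSide

end

section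


/-!
# The group `X = ⟨Q, Q'⟩` (type beta): the fields `aX`, `sX`, ... of `QInput.QIn`
-/

set_option autoImplicit false
set_option linter.unusedSectionVars false

open Subgroup

namespace Cfsg.Agent.RankTwoClose.XSide

open Cfsg.Agent.Omega.NOne.SU Cfsg.Agent.RankTwoClose.UFour

variable {G : Type*} [Group G] {k F : Type*} [Field k] [Field F] [Algebra k F]

/-- the norm is onto -/
theorem nm_surj (T : Quad k F) (h2 : (2 : k) = 0) (c : k) : ∃ z : F, T.nm z = c := by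
  have := T.fink
  have hinj : Function.Injective (fun y : k => y * y) := by
    intro a b hab
    have h1 : (a - b) * (a - b) = 0 := by
      have h3 : (a - b) * (a - b) = a * a - b * b - 2 * (b * (a - b)) := by ring
      rw [h3, h2, zero_mul, sub_zero]
      exact sub_eq_zero.2 hab
    exact sub_eq_zero.1 (mul_self_eq_zero.1 h1)
  obtain ⟨e, he⟩ := Finite.surjective_of_injective hinj c
  refine ⟨algebraMap k F e, ?_⟩
  apply T.alg_inj'
  rw [T.nm_eq, T.sg_alg, ← map_mul]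
  exact congrArg _ he

section two

variable {T : Quad k F} {S : Sylow 2 G} {V R Q Q' : Subgroup G} {v : k → F → k → G} {p p' : G → F}
  (I : GIn T S V R Q Q' v p p') (Ex : Ext V R Q Q' p')
include I Ex

theorem Q'_two : IsPGroup 2 Q' := by
  obtain ⟨n, -, hn⟩ := Ex.sw
  rintro ⟨z, hz⟩
  have h1 : n⁻¹ * z * n ∈ Q := by
    refine (hn _).2 ?_
    rwa [show n * (n⁻¹ * z * n) * n⁻¹ = z by group]
  obtain ⟨j, hj⟩ := I.Q_two ⟨_, h1⟩
  have hj' : (n⁻¹ * z * n) ^ 2 ^ j = 1 := congrArg Subtype.val hj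
  refine ⟨j, Subtype.ext ?_⟩
  show z ^ 2 ^ j = 1
  have e : n⁻¹ * z * n = n⁻¹ * z * n⁻¹⁻¹ := by rw [inv_inv]
  rw [e, conj_pow] at hj'
  calc z ^ 2 ^ j = n * (n⁻¹ * z ^ 2 ^ j * n⁻¹⁻¹) * n⁻¹ := by group
    _ = 1 := by rw [hj']; group

theorem UX_two : IsPGroup 2 ↥(UX V Q Q') := by
  have h1 : UX V Q Q' = (Q' ⊓ centralizer (V : Set G)) ⊔ Q := sup_comm _ _
  rw [h1]
  exact IsPGroup.to_sup_of_normal_right' ((Q'_two I Ex).to_le inf_le_left) I.Q_two
    (inf_le_right.trans (CV_norm_Q I))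

end two

section fld

variable {T : Quad k F} {S : Sylow 2 G} {V R Q Q' : Subgroup G} {v : k → F → k → G} {p p' : G → F}
  {Φ : Type*} [AddCommGroup Φ] [Module F Φ] {φ χ : G → Φ} [Finite G]
  {hm : Φ → Φ → F} {W : Type*} [AddCommGroup W] [Module F W] {w : G → W}
  {g : W → W → F} {f₀ : W} {ι : Φ →ₗ[F] W}
  (O : Out T V R Q Q' v p φ χ hm w g f₀ ι)
  (I : GIn T S V R Q Q' v p p') (D : Fld T V R Q Q' v p φ χ) (Ex : Ext V R Q Q' p')
  {m₀ : G} (M : Mz T v Q Q' m₀)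

include I D Ex M in
/-- the torus moves everything -/
theorem tor_UX {t : G} (ht : t ∈ Q ⊔ Q') {z : F} (_hz : z ≠ 0)
    (hv : ∀ a b d, t * v a b d * t⁻¹ = v (T.nm z * a) (z * (T.sg z)⁻¹ * b) ((T.nm z)⁻¹ * d)) :
    cj t (UX V Q Q') = UX V Q Q' ∧ cj t (cj m₀ (UX V Q Q')) = cj m₀ (UX V Q Q') := by
  have h1 : t ∈ normalizer (R : Set G) := mem_NR_of I fun a => ⟨_, by rw [hv, mul_zero, mul_zero]⟩
  refine ⟨UX_of_NR I D Ex ht h1, ?_⟩
  have h2 : m₀⁻¹ * t * m₀ ∈ normalizer (R : Set G) := mem_NR_of I fun a => ⟨(T.nm z)⁻¹ * a, by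
    calc m₀⁻¹ * t * m₀ * v a 0 0 * (m₀⁻¹ * t * m₀)⁻¹
        = m₀⁻¹ * (t * (m₀ * v a 0 0 * m₀⁻¹) * t⁻¹) * m₀ := by group
      _ = v ((T.nm z)⁻¹ * a) 0 0 := by rw [M.act, hv, M.inv_act I]; simp⟩
  have h3 := UX_of_NR I D Ex (mul_mem (mul_mem (inv_mem M.mem) ht) M.mem) h2
  have e : t * m₀ = m₀ * (m₀⁻¹ * t * m₀) := by group
  rw [← cj_mul, e, cj_mul, h3]

include I D Ex M in
/-- **`X` is a rank one group.** -/
theorem absX : PanOf.Abs (Q ⊔ Q') (UX V Q Q') (OX V Q Q') m₀ where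
  UL := UX_le_X I
  QU := OX_le_UX I
  LQ := X_OX I D Ex
  two := UX_two I Ex
  nL := M.mem
  trans x hx := by
    rcases pos I D Ex M hx with h | ⟨y, hy, x', hx', hR, rfl⟩
    · exact Or.inl (UX_of_NR I D Ex hx h)
    · right
      exact ⟨y, mem_sup_left hy, by rw [cj_mul, UX_of_NR I D Ex hx' hR]⟩
  ne := m₀_ne I D Ex M
  swap := by
    rw [← cj_mul]
    exact UX_of_NR I D Ex (mul_mem M.mem M.mem) (CV_NR I (M.sq I))
  inter u hu h := by
    have h1 : cj (m₀⁻¹ * u * m₀) (UX V Q Q') = UX V Q Q' := by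
      rw [cj_mul, cj_mul, h, cj_inv_cj]
    have h2 := NR_of_UX I (X_NV I (mul_mem (mul_mem (inv_mem M.mem) (UX_le_X I hu)) M.mem)) h1
    obtain ⟨y, hy, b, hb, rfl⟩ := (mem_UX I).1 hu
    have h3 := (mem_normalizer_iff.1 h2 _).1 (I.sp.a_mem 1)
    obtain ⟨a, e⟩ := I.mem_R.1 h3
    have hbV : b * v 0 0 1 * b⁻¹ = v 0 0 1 := by
      rw [← mem_centralizer_iff.1 (mem_inf.1 hb).2 _ (I.v_mem 0 0 1)]; group
    have e2 : m₀⁻¹ * (y * b) * m₀ * v 1 0 0 * (m₀⁻¹ * (y * b) * m₀)⁻¹ =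
        m₀⁻¹ * (y * (b * (m₀ * v 1 0 0 * m₀⁻¹) * b⁻¹) * y⁻¹) * m₀ := by group
    rw [e2, M.act, map_zero, hbV, I.act y hy, M.inv_act I] at e
    have h4 := (I.v_eq e).2.1
    rw [zero_add, map_one, mul_one] at h4
    have h5 : p y = 0 := by
      have := congrArg T.sg h4
      rwa [T.sg_sg, map_zero] at this
    exact mul_mem (mem_sup_left (mem_inf.2 ⟨hy, (I.p_eq_zero hy).1 h5⟩)) (mem_sup_right hb)
  fix u hu h := by
    obtain ⟨y, hy, b, hb, rfl⟩ := (mem_UX I).1 hu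
    -- a torus element with `z² ≠ 1`
    obtain ⟨z, hz0, hz1⟩ := T.exists_z I.h2
    have hz2 : z ≠ 1 := by rintro rfl; simp at hz1
    obtain ⟨t, ht, hv, hp, -, hn⟩ := D.tor z hz0
    obtain ⟨h1, h2⟩ := tor_UX I D Ex M ht hz0 hv
    have h3 := h t ht h1 h2
    obtain ⟨hyQ, hpy⟩ := hp y hy
    -- in `C(V)`
    have htV := X_NV I ht
    have h4 : t * (y * b) * t⁻¹ * (y * b)⁻¹ ∈ centralizer (V : Set G) := OX_le_CV I h3
    have hb1 : t * b * t⁻¹ ∈ centralizer (V : Set G) := cen_conj I htV (mem_inf.1 hb).2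
    have hb2 := (mem_inf.1 hb).2
    have h5 : (t * y * t⁻¹) * y⁻¹ ∈ centralizer (V : Set G) := by
      have e : (t * y * t⁻¹) * y⁻¹ = (t * (y * b) * t⁻¹ * (y * b)⁻¹) *
          (y * (b * (t * b * t⁻¹)⁻¹) * y⁻¹) := by group
      rw [e]
      exact mul_mem h4 (cen_conj I (I.Q_NV hy) (mul_mem hb2 (inv_mem hb1)))
    have h6 := (I.p_eq_zero (mul_mem hyQ (inv_mem hy))).2 h5
    rw [I.p_add _ hyQ _ (inv_mem hy), I.p_inv hy, hpy] at h6
    have h7 : (z + 1) ^ 2 * p y = 0 := by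
      have : (z + 1) ^ 2 * p y = (z ^ 2 * p y + p y) + (z * p y + z * p y) := by ring
      rw [this, h6, T.add_self (h2 := I.h2), add_zero]
    have h8 : p y = 0 := by
      rcases mul_eq_zero.1 h7 with h9 | h9
      · exfalso
        apply hz2
        have h10 := pow_eq_zero_iff (two_ne_zero) |>.1 h9
        calc z = z + (1 + 1) := by rw [T.add_self (h2 := I.h2), add_zero]
          _ = (z + 1) + 1 := by ring
          _ = 1 := by rw [h10, zero_add]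
      · exact h9
    exact mul_mem (mem_sup_left (mem_inf.2 ⟨hy, (I.p_eq_zero hy).1 h8⟩)) (mem_sup_right hb)

include O I D Ex in
/-- `2`-elements of `N_X(R)` lie in `UX` -/
theorem two_NR {x : G} (hx : x ∈ Q ⊔ Q') (hR : x ∈ normalizer (R : Set G)) {j : ℕ}
    (h2 : x ^ 2 ^ j = 1) : x ∈ UX V Q Q' := by
  obtain ⟨A, hA, hA1, -⟩ := exists_mat I D Ex hx
  -- `A 1 0 = 0`
  have hγ : A 1 0 = 0 := by
    obtain ⟨a', b', d', e1, e2⟩ := hA1 1 0 0
    have h3 := (mem_normalizer_iff.1 hR _).1 (I.sp.a_mem 1)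
    obtain ⟨a, e⟩ := I.mem_R.1 h3
    have e' : v a' b' d' = v a 0 0 := by rw [← e1, e]
    obtain ⟨-, -, rfl⟩ := I.v_eq e'
    unfold mu st at e2
    have e5 := congrFun (congrFun e2 1) 1
    simp [Matrix.mul_apply, Fin.sum_univ_two] at e5
    exact e5
  -- the powers
  have hpow : ∀ i : ℕ, VAct T v (x ^ i) (A ^ i) ∧ (A ^ i) 1 0 = 0 ∧ (A ^ i) 0 0 = (A 0 0) ^ i := by
    intro i
    induction i with
    | zero => exact ⟨by rw [pow_zero, pow_zero]; exact VAct.one, by simp, by simp⟩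
    | succ i ih =>
      obtain ⟨h1, h3, h4⟩ := ih
      refine ⟨by rw [pow_succ, pow_succ]; exact h1.mul hA1, ?_, ?_⟩
      · rw [pow_succ, Matrix.mul_apply, Fin.sum_univ_two, h3, hγ, zero_mul, mul_zero, add_zero]
      · rw [pow_succ, Matrix.mul_apply, Fin.sum_univ_two, h4, hγ, mul_zero, add_zero, pow_succ]
  obtain ⟨h3, -, h4⟩ := hpow (2 ^ j)
  rw [h2] at h3
  have h5 := VAct.eq_one I h3 (by rw [Matrix.det_pow, hA, one_pow]) (one_mem _)
  rw [h5, Matrix.one_apply_eq] at h4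
  have hc : CharP F 2 := CharTwo.of_one_ne_zero_of_two_eq_zero one_ne_zero (T.twoF I.h2)
  have h6 : A 0 0 = 1 := by
    have h7 : (A 0 0 - 1) ^ 2 ^ j = 0 := by
      have := sub_pow_char_pow (R := F) (p := 2) (x := A 0 0) (y := 1) (n := j)
      rw [this, ← h4, one_pow, sub_self]
    exact sub_eq_zero.1 (pow_eq_zero_iff (by positivity) |>.1 h7)
  have h7 : A 1 1 = 1 := by
    rw [Matrix.det_fin_two, h6, hγ, mul_zero, sub_zero, one_mul] at hA
    exact hA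
  obtain ⟨y, hy, hpy⟩ := I.p_surj (A 0 1)
  -- `y x` is trivial on `V`
  have h8 : y * x ∈ centralizer (V : Set G) := by
    have h9 := (VAct_Q I hy).mul hA1
    have h10 : !![1, p y; 0, 1] * A = 1 := by
      ext i' j'
      fin_cases i' <;> fin_cases j'
      · simp [Matrix.mul_apply, Fin.sum_univ_two, h6, hγ]
      · simp [Matrix.mul_apply, Fin.sum_univ_two, h7, hpy]
        exact T.add_self (h2 := I.h2) _
      · simp [Matrix.mul_apply, Fin.sum_univ_two, hγ]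
      · simp [Matrix.mul_apply, Fin.sum_univ_two, h7]
    rw [h10] at h9
    rw [mem_centralizer_iff]
    intro z hz
    obtain ⟨a, b, d, rfl⟩ := I.v_surj z hz
    obtain ⟨a', b', d', e1, e2⟩ := h9 a b d
    have h11 : st T (1 : Matrix (Fin 2) (Fin 2) F) = 1 := by
      unfold st
      rw [Matrix.map_one _ (map_zero _) (map_one _), Matrix.transpose_one]
    rw [h11, Matrix.one_mul, Matrix.mul_one] at e2
    unfold mu at e2
    have e3 := congrFun (congrFun e2 0) 0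
    have e4 := congrFun (congrFun e2 0) 1
    have e5 := congrFun (congrFun e2 1) 1
    simp at e3 e4 e5
    rw [e3, e4, e5] at e1
    calc v a b d * (y * x) = (y * x * v a b d * (y * x)⁻¹) * (y * x) := by rw [e1]
      _ = _ := by group
  have h9 := CX_le O I D Ex (mul_mem (mem_sup_left hy) hx) h8
  have e : x = y⁻¹ * (y * x) := by group
  rw [e]
  exact mul_mem (mem_sup_left (inv_mem hy)) (OX_le_UX I h9)

include O I D Ex in
/-- **`UX` is a Sylow `2`-subgroup of `X`.** -/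
theorem sylX (P : Subgroup G) (hP : P ≤ Q ⊔ Q') (h2 : IsPGroup 2 P) (hU : UX V Q Q' ≤ P) :
    P ≤ UX V Q Q' := by
  by_contra hcon
  have : Fact (Nat.Prime 2) := ⟨Nat.prime_two⟩
  have hnil := h2.isNilpotent
  have hlt : (UX V Q Q').subgroupOf P < ⊤ := by
    rw [lt_top_iff_ne_top]
    intro h
    rw [subgroupOf_eq_top] at h
    exact hcon h
  have h3 := Group.normalizerCondition_of_isNilpotent (G := P) _ hlt
  obtain ⟨⟨x, hxP⟩, hx1, hx2⟩ := SetLike.exists_of_lt h3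
  apply hx2
  rw [mem_subgroupOf]
  show x ∈ UX V Q Q'
  have hxN : cj x (UX V Q Q') = UX V Q Q' := by
    rw [← mem_norm_iff]
    refine Central.mem_norm_of fun u hu => ?_
    have := (mem_normalizer_iff.1 hx1 ⟨u, hU hu⟩).1 (mem_subgroupOf.2 hu)
    exact mem_subgroupOf.1 this
  obtain ⟨j, hj⟩ := h2 ⟨x, hxP⟩
  exact two_NR O I D Ex (hP hxP) (NR_of_UX I (X_NV I (hP hxP)) hxN) (congrArg Subtype.val hj)

end fld

end Cfsg.Agent.RankTwoClose.XSide

end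

section


/-!
# The group `X = ⟨Q, Q'⟩` (type beta): all the fields of `QInput.QIn` of the side `X`

`XFields X U Q O V R m₀` = the fields of `QInput.QIn` which do not mention `L` and `A`; valid for every dimension
of `Φ`.  `exists_XFields` : from `Out`, `GIn`, `Fld`, `Ext`, with `X = Q ⊔ Q'`, `U = UX V Q Q'`, `O = OX V Q Q'`.
-/

set_option autoImplicit false
set_option linter.unusedSectionVars false

open Subgroup

namespace Cfsg.Agent.RankTwoClose.XSide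

open Cfsg.Agent.Omega.NOne.SU Cfsg.Agent.RankTwoClose.UFour

/-- The fields of `QInput.QIn` of the side `X`. -/
structure XFields {G : Type*} [Group G] (X U Q O V R : Subgroup G) (m₀ : G) : Prop where
  aX : PanOf.Abs X U O m₀
  sX : ∀ P ≤ X, IsPGroup 2 P → U ≤ P → P ≤ U
  /-- `N(V)` normalises `X` -/
  NX : normalizer (V : Set G) ≤ normalizer (X : Set G)
  /-- `N(V) ∩ N(U)` normalises `R` -/
  XR : ∀ g ∈ normalizer (V : Set G), cj g U = U → g ∈ normalizer (R : Set G)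
  RV : R ≤ V
  VU : V ≤ U
  XV : X ≤ normalizer (V : Set G)
  OV : ∀ x ∈ O, ∀ v ∈ V, x * v = v * x
  CO : ∀ u ∈ U, (∀ v ∈ V, u * v = v * u) → u ∈ O
  CX : ∀ x ∈ X, (∀ v ∈ V, x * v = v * x) → x ∈ O
  QQ : ∀ g ∈ X, cj g U ≠ U → Q ⊓ cj g Q ≤ V
  RQ : ∀ g ∈ X, cj g U ≠ U → cj g R ⊓ Q = ⊥
  VR : ∀ g ∈ X, cj g U ≠ U → V ≤ cj g R ⊔ Q
  cE : ∀ g ∈ X, cj g U ≠ U → O.relIndex U ≤ Nat.card ↥((V ⊓ Q) ⊓ cj g (V ⊓ Q))
  tr : ∀ z₀ ∈ R, z₀ ≠ 1 → ∀ z ∈ R, z ≠ 1 → ∃ h, (∀ x ∈ Q, h * x * h⁻¹ ∈ Q) ∧ h * z₀ * h⁻¹ = z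
  fixR : ∀ z ∈ R, (∀ g ∈ X, cj g U = U → g * z = z * g) → z = 1
  pair : ∃ a ∈ R, ∃ b ∈ R, a ≠ 1 ∧ b ≠ 1 ∧ a ≠ b

variable {G : Type*} [Group G] {k F : Type*} [Field k] [Field F] [Algebra k F]

/-- there is a scalar `s ≠ 0, 1` -/
theorem exists_s (T : Quad k F) : ∃ s : k, s ≠ 0 ∧ s ≠ 1 := by
  have := T.fink
  by_contra hcon
  push Not at hcon
  have h1 : Nat.card k ≤ Nat.card Bool := by
    classical
    apply Nat.card_le_card_of_injective (fun s : k => decide (s = 0))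
    intro a b hab
    simp only [decide_eq_decide] at hab
    by_cases ha : a = 0
    · rw [ha, hab.1 ha]
    · rw [hcon a ha, hcon b (fun hb => ha (hab.2 hb))]
  have h2 := T.four
  have h3 : Nat.card Bool = 2 := by simp
  omega

section gin

variable {T : Quad k F} {S : Sylow 2 G} {V R Q Q' : Subgroup G} {v : k → F → k → G} {p p' : G → F}
  (I : GIn T S V R Q Q' v p p')
include I

theorem v_one : v 0 0 0 = 1 := by
  have h := I.v_add 0 0 0 0 0 0
  rw [add_zero, add_zero] at h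
  exact left_eq_mul.1 h

/-- `N(R)` normalises `Q` -/
theorem NR_NQ : normalizer (R : Set G) ≤ normalizer (Q : Set G) := fun x hx =>
  mem_normalizer_iff.2 fun y => ⟨I.nor x hx y, fun h => by
    have := I.nor x⁻¹ (inv_mem hx) _ h
    rwa [show x⁻¹ * (x * y * x⁻¹) * x⁻¹⁻¹ = y by group] at this⟩

/-- `V ∩ Q = {v a b 0}` -/
theorem mem_VQ {z : G} : z ∈ V ⊓ Q ↔ ∃ a b, z = v a b 0 :=
  ⟨fun h => mem_E I (mem_inf.1 h).1 (mem_inf.1 h).2, by
    rintro ⟨a, b, rfl⟩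
    exact mem_inf.2 ⟨I.v_mem _ _ _, I.E_le _ _⟩⟩

theorem pair_R : ∃ a ∈ R, ∃ b ∈ R, a ≠ 1 ∧ b ≠ 1 ∧ a ≠ b := by
  obtain ⟨s, hs0, hs1⟩ := exists_s T
  refine ⟨v 1 0 0, I.sp.a_mem 1, v s 0 0, I.sp.a_mem s, fun h => ?_, fun h => ?_, fun h => ?_⟩
  · exact one_ne_zero (I.v_inj _ _ _ h).1
  · exact hs0 (I.v_inj _ _ _ h).1
  · exact hs1 (I.v_eq h).1.symm

/-- `N(V)` normalises `X` -/
theorem NV_NX (Ex : Ext V R Q Q' p') :
    normalizer (V : Set G) ≤ normalizer ((Q ⊔ Q' : Subgroup G) : Set G) := by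
  obtain ⟨n, hn, hnQ⟩ := Ex.sw
  have hnV : n ∈ normalizer (V : Set G) := X_NV I hn
  have key : ∀ m ∈ normalizer (V : Set G), ∀ y ∈ Q, m * y * m⁻¹ ∈ Q ⊔ Q' := by
    intro m hm y hy
    obtain ⟨x, hx, hxm⟩ := Ex.MX m hm
    have h1 := I.nor _ hxm y hy
    have h2 : m * y * m⁻¹ = x⁻¹ * ((x * m) * y * (x * m)⁻¹) * x := by group
    rw [h2]
    exact mul_mem (mul_mem (inv_mem hx) (mem_sup_left h1)) hx
  have key' : ∀ m ∈ normalizer (V : Set G), ∀ y ∈ Q', m * y * m⁻¹ ∈ Q ⊔ Q' := by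
    intro m hm y hy
    have h1 : n⁻¹ * y * n ∈ Q := by
      rw [hnQ]
      rwa [show n * (n⁻¹ * y * n) * n⁻¹ = y by group]
    have h2 := key (m * n) (mul_mem hm hnV) _ h1
    rwa [show m * n * (n⁻¹ * y * n) * (m * n)⁻¹ = m * y * m⁻¹ by group] at h2
  have hle : ∀ m ∈ normalizer (V : Set G), cj m (Q ⊔ Q') ≤ Q ⊔ Q' := by
    intro m hm
    rw [cj_sup]
    refine sup_le ?_ ?_
    · rintro _ ⟨y, hy, rfl⟩
      exact key m hm y hy
    · rintro _ ⟨y, hy, rfl⟩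
      exact key' m hm y hy
  intro m hm
  rw [mem_norm_iff]
  refine le_antisymm (hle m hm) fun x hx => ?_
  rw [mem_cj]
  have := hle m⁻¹ (inv_mem hm) (conj_mem_cj hx)
  rwa [inv_inv] at this

end gin

section fld

variable {T : Quad k F} {S : Sylow 2 G} {V R Q Q' : Subgroup G} {v : k → F → k → G} {p p' : G → F}
  {Φ : Type*} [AddCommGroup Φ] [Module F Φ] {φ χ : G → Φ} [Finite G]
  (I : GIn T S V R Q Q' v p p') (D : Fld T V R Q Q' v p φ χ) (Ex : Ext V R Q Q' p')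
  {m₀ : G} (M : Mz T v Q Q' m₀)

/-- `|U : O| ≤ |F|` -/
theorem relIndex_le (I : GIn T S V R Q Q' v p p') : (OX V Q Q').relIndex (UX V Q Q') ≤ Nat.card F := by
  have := T.finF
  have key : ∀ u : UX V Q Q', ∃ l : F, ∃ y ∈ Q, ∃ b ∈ Q' ⊓ centralizer (V : Set G), (u : G) = y * b ∧ p y = l := by
    rintro ⟨u, hu⟩
    obtain ⟨y, hy, b, hb, e⟩ := (mem_UX I).1 hu
    exact ⟨p y, y, hy, b, hb, e, rfl⟩
  choose f hf using key
  have hinj : ∀ u u' : UX V Q Q', f u = f u' → u⁻¹ * u' ∈ (OX V Q Q').subgroupOf (UX V Q Q') := by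
    intro u u' h
    obtain ⟨y, hy, b, hb, e1, e2⟩ := hf u
    obtain ⟨y', hy', b', hb', e1', e2'⟩ := hf u'
    rw [mem_subgroupOf]
    have h1 : ((u⁻¹ * u' : UX V Q Q') : G) = b⁻¹ * (y⁻¹ * y') * b' := by
      rw [Subgroup.coe_mul, Subgroup.coe_inv, e1, e1']; group
    rw [h1]
    have h2 : y⁻¹ * y' ∈ Q ⊓ centralizer (V : Set G) := by
      refine mem_inf.2 ⟨mul_mem (inv_mem hy) hy', ?_⟩
      rw [← I.p_eq_zero (mul_mem (inv_mem hy) hy'), I.p_add _ (inv_mem hy) _ hy', I.p_inv hy, e2, e2', h,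
        T.add_self (h2 := I.h2)]
    exact mul_mem (mul_mem (mem_sup_right (inv_mem hb)) (mem_sup_left h2)) (mem_sup_right hb')
  show ((OX V Q Q').subgroupOf (UX V Q Q')).index ≤ _
  rw [Subgroup.index]
  apply Nat.card_le_card_of_injective (fun q : UX V Q Q' ⧸ (OX V Q Q').subgroupOf (UX V Q Q') => f q.out)
  intro q q' h
  have h1 := hinj _ _ h
  rw [← QuotientGroup.eq] at h1
  rwa [QuotientGroup.out_eq', QuotientGroup.out_eq'] at h1

include I D Ex M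

/-- the conjugates by `g ∈ X - N(U)` -/
theorem cj_form {x : G} (hx : x ∈ Q ⊔ Q') (hne : cj x (UX V Q Q') ≠ UX V Q Q') :
    ∃ y ∈ Q, cj x Q = cj y (cj m₀ Q) ∧ cj x R = cj y (cj m₀ R) ∧
      cj x (V ⊓ Q) = cj y (cj m₀ (V ⊓ Q)) := by
  obtain ⟨y, hy, x', hx', hR, rfl⟩ := form_of I D Ex M hx hne
  refine ⟨y, hy, ?_, ?_, ?_⟩
  · rw [cj_mul, cj_mul, mem_norm_iff.1 (NR_NQ I hR)]
  · rw [cj_mul, cj_mul, mem_norm_iff.1 hR]
  · rw [cj_mul, cj_mul, cj_inf x', mem_norm_iff.1 (NR_NQ I hR), mem_norm_iff.1 (X_NV I hx')]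

theorem QQ {x : G} (hx : x ∈ Q ⊔ Q') (hne : cj x (UX V Q Q') ≠ UX V Q Q') : Q ⊓ cj x Q ≤ V := by
  obtain ⟨y, hy, e, -, -⟩ := cj_form I D Ex M hx hne
  rw [e]
  intro z hz
  obtain ⟨h1, h2⟩ := mem_inf.1 hz
  rw [mem_cj, mem_cj] at h2
  have h3 : y⁻¹ * z * y ∈ Q' := by
    have := m₀_Q I D Ex M _ h2
    rwa [show m₀ * (m₀⁻¹ * (y⁻¹ * z * y) * m₀) * m₀⁻¹ = y⁻¹ * z * y by group] at this
  have h4 : y⁻¹ * z * y ∈ V := meet_V I (mem_inf.2 ⟨mul_mem (mul_mem (inv_mem hy) h1) hy, h3⟩)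
  have h5 := (mem_normalizer_iff.1 (I.Q_NV hy) _).1 h4
  rwa [show y * (y⁻¹ * z * y) * y⁻¹ = z by group] at h5

theorem mem_mR {z : G} : z ∈ cj m₀ R ↔ ∃ d, z = v 0 0 d := by
  have _ := D
  have _ := Ex
  rw [mem_cj]
  constructor
  · intro h
    obtain ⟨a, ha⟩ := I.mem_R.1 h
    refine ⟨a, ?_⟩
    have : z = m₀ * (m₀⁻¹ * z * m₀) * m₀⁻¹ := by group
    rw [this, ha, M.act, map_zero]
  · rintro ⟨d, rfl⟩
    rw [M.inv_act I, map_zero]
    exact I.sp.a_mem d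

theorem RQ {x : G} (hx : x ∈ Q ⊔ Q') (hne : cj x (UX V Q Q') ≠ UX V Q Q') : cj x R ⊓ Q = ⊥ := by
  obtain ⟨y, hy, -, e, -⟩ := cj_form I D Ex M hx hne
  rw [eq_bot_iff, e]
  intro z hz
  obtain ⟨h1, h2⟩ := mem_inf.1 hz
  rw [mem_cj] at h1
  obtain ⟨d, hd⟩ := (mem_mR I D Ex M).1 h1
  have h3 : y⁻¹ * z * y ∈ Q := mul_mem (mul_mem (inv_mem hy) h2) hy
  rw [hd] at h3
  obtain rfl := I.V_Q _ _ _ h3
  rw [v_one I] at hd
  rw [mem_bot]
  calc z = y * (y⁻¹ * z * y) * y⁻¹ := by group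
    _ = 1 := by rw [hd]; group

theorem VR {x : G} (hx : x ∈ Q ⊔ Q') (hne : cj x (UX V Q Q') ≠ UX V Q Q') : V ≤ cj x R ⊔ Q := by
  obtain ⟨y, hy, -, e, -⟩ := cj_form I D Ex M hx hne
  rw [e]
  intro z hz
  obtain ⟨a, b, d, rfl⟩ := I.v_surj z hz
  have h1 : y * v 0 0 d * y⁻¹ ∈ cj y (cj m₀ R) := conj_mem_cj ((mem_mR I D Ex M).2 ⟨d, rfl⟩)
  have h2 : v a b d = (y * v 0 0 d * y⁻¹) * ((y * v 0 0 d * y⁻¹)⁻¹ * v a b d) := by group
  rw [h2]
  refine mul_mem (mem_sup_left h1) (mem_sup_right ?_)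
  rw [I.act y hy, I.v_inv, ← I.v_add, T.add_selfk (h2 := I.h2)]
  exact I.E_le _ _

theorem cE {x : G} (hx : x ∈ Q ⊔ Q') (hne : cj x (UX V Q Q') ≠ UX V Q Q') :
    (OX V Q Q').relIndex (UX V Q Q') ≤ Nat.card ↥((V ⊓ Q) ⊓ cj x (V ⊓ Q)) := by
  obtain ⟨y, hy, -, -, e⟩ := cj_form I D Ex M hx hne
  refine (relIndex_le I).trans ?_
  rw [e]
  have h1 : ∀ b, y * v 0 b 0 * y⁻¹ ∈ (V ⊓ Q) ⊓ cj y (cj m₀ (V ⊓ Q)) := by
    intro b
    refine mem_inf.2 ⟨mem_inf.2 ⟨(mem_normalizer_iff.1 (I.Q_NV hy) _).1 (I.v_mem _ _ _),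
      mul_mem (mul_mem hy (I.E_le _ _)) (inv_mem hy)⟩, conj_mem_cj ?_⟩
    rw [mem_cj, M.inv_act I]
    exact mem_inf.2 ⟨I.v_mem _ _ _, I.E_le _ _⟩
  apply Nat.card_le_card_of_injective (fun b : F => (⟨_, h1 b⟩ : ↥((V ⊓ Q) ⊓ cj y (cj m₀ (V ⊓ Q)))))
  intro b b' h
  have h2 : y * v 0 b 0 * y⁻¹ = y * v 0 b' 0 * y⁻¹ := congrArg Subtype.val h
  exact (I.v_eq (mul_left_cancel (mul_right_cancel h2))).2.1

omit M Ex in
theorem tr {z₀ : G} (h0 : z₀ ∈ R) (h1 : z₀ ≠ 1) {z : G} (hz : z ∈ R) (hz1 : z ≠ 1) :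
    ∃ h, (∀ x ∈ Q, h * x * h⁻¹ ∈ Q) ∧ h * z₀ * h⁻¹ = z := by
  obtain ⟨a, rfl⟩ := I.mem_R.1 h0
  obtain ⟨b, rfl⟩ := I.mem_R.1 hz
  have ha : a ≠ 0 := by
    rintro rfl
    exact h1 (v_one I)
  have hb : b ≠ 0 := by
    rintro rfl
    exact hz1 (v_one I)
  obtain ⟨s, hs⟩ := nm_surj T I.h2 (b / a)
  have hs0 : s ≠ 0 := by
    rintro rfl
    rw [T.nm_zero] at hs
    exact div_ne_zero hb ha hs.symm
  obtain ⟨t, -, hv, hp, -, -⟩ := D.tor s hs0
  refine ⟨t, fun x hx => (hp x hx).1, ?_⟩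
  rw [hv, hs, div_mul_cancel₀ _ ha, mul_zero, mul_zero]

theorem fixR {z : G} (hz : z ∈ R) (h : ∀ g ∈ Q ⊔ Q', cj g (UX V Q Q') = UX V Q Q' → g * z = z * g) :
    z = 1 := by
  obtain ⟨a, rfl⟩ := I.mem_R.1 hz
  obtain ⟨c, hc0, hc1⟩ := exists_s T
  obtain ⟨s, hs⟩ := nm_surj T I.h2 c
  have hs0 : s ≠ 0 := by
    rintro rfl
    rw [T.nm_zero] at hs
    exact hc0 hs.symm
  obtain ⟨t, ht, hv, -, -, -⟩ := D.tor s hs0
  have h1 := h t ht (tor_UX I D Ex M ht hs0 hv).1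
  have h2 := hv a 0 0
  rw [h1, mul_inv_cancel_right, hs] at h2
  have h3 := (I.v_eq h2).1
  have h4 : a = 0 := by
    by_contra h5
    apply hc1
    apply mul_right_cancel₀ h5
    rw [← h3, one_mul]
  rw [h4, v_one I]

omit M in
/-- **All fields of the side `X`.** -/
theorem exists_XFields {hm : Φ → Φ → F} {W : Type*} [AddCommGroup W] [Module F W] {w : G → W}
    {g : W → W → F} {f₀ : W} {ι : Φ →ₗ[F] W} (O : Out T V R Q Q' v p φ χ hm w g f₀ ι) :
    ∃ m₀, XFields (Q ⊔ Q') (UX V Q Q') Q (OX V Q Q') V R m₀ := by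
  obtain ⟨m₀, M⟩ := exists_mz I Ex
  exact ⟨m₀,
    { aX := absX I D Ex M
      sX := fun P hP h2 hU => sylX O I D Ex P hP h2 hU
      NX := NV_NX I Ex
      XR := fun x hx h => NR_of_UX I hx h
      RV := I.R_V
      VU := (V_le_OX I).trans (OX_le_UX I)
      XV := X_NV I
      OV := fun x hx z hz => (mem_centralizer_iff.1 (OX_le_CV I hx) z hz).symm
      CO := fun u hu h => mem_OX_of I hu (mem_centralizer_iff.2 fun z hz => (h z hz).symm)
      CX := fun u hu h => CX_le O I D Ex hu (mem_centralizer_iff.2 fun z hz => (h z hz).symm)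
      QQ := fun x hx h => QQ I D Ex M hx h
      RQ := fun x hx h => RQ I D Ex M hx h
      VR := fun x hx h => VR I D Ex M hx h
      cE := fun x hx h => cE I D Ex M hx h
      tr := fun z₀ h0 h1 z hz hz1 => tr I D h0 h1 hz hz1
      fixR := fun z hz h => fixR I D Ex M hz h
      pair := pair_R I }⟩

end fld

end Cfsg.Agent.RankTwoClose.XSide

end

section


/-!
# `U₅(q)`: the two sides together

`qin` : `LSide` + `XFields` + a central element `z₀` of `S` in `R` with `O₂(C(z₀))` self-centralising ⟹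
`QInput.QIn`; so `⟨L, X⟩` has a split `BN`-pair of rank two (`exists_split`).
`NR_le`, `NV_le` : `N(R)` and `N(V)` normalise `⟨L, X⟩`.
-/

set_option autoImplicit false
set_option linter.unusedSectionVars false

open Subgroup

universe u

namespace Cfsg.Agent.RankTwoClose.UFive.Glue

open Cfsg.Agent.RankTwoClose.UFour Cfsg.Agent.RankTwoClose.QInput Cfsg.Agent.Omega.RootLemma
open Cfsg.Agent.RankTwoClose.UFive.LSide Cfsg.Agent.RankTwoClose.XSide

/-- `O₂(C(z))` contains its centraliser -/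
def Char2At {G : Type u} [Group G] (z : G) : Prop :=
  ∃ N : Subgroup G, (∀ x ∈ N, x * z = z * x) ∧ IsPGroup 2 N ∧
    (∀ d, d * z = z * d → ∀ x ∈ N, d * x * d⁻¹ ∈ N) ∧
    (∀ d, d * z = z * d → (∀ x ∈ N, d * x = x * d) → d ∈ N)

section sides

variable {G : Type u} [Group G] {S : Sylow 2 G} {L X U Q O V R A : Subgroup G} {n₀ m₀ w₀ : G}
  (l : LSide S L U Q V R A n₀ w₀) (x : XFields X U Q O V R m₀)
include l x

theorem L_NR : L ≤ normalizer (R : Set G) := by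
  have _ := x
  intro g hg
  rw [mem_normalizer_iff]
  have h1 : ∀ z ∈ R, g * z * g⁻¹ = z := fun z hz => by rw [l.LR g hg z hz]; group
  intro z
  constructor
  · intro hz; rw [h1 z hz]; exact hz
  · intro hz
    have h2 := l.LR g hg _ hz
    have h3 : z = g * z * g⁻¹ := by
      calc z = g⁻¹ * (g * z * g⁻¹ * g) := by group
        _ = g⁻¹ * (g * (g * z * g⁻¹)) := by rw [h2]
        _ = _ := by group
    rw [h3]; exact hz

/-- `N(R) ∩ N(U)` normalises `X` -/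
theorem LX {g : G} (hg : g ∈ normalizer (R : Set G)) (hU : cj g U = U) : cj g X = X :=
  mem_norm_iff.1 (x.NX (mem_norm_iff.2 (l.NV g hg hU)))

theorem qin {z₀ : G} (hz : z₀ ∈ R) (hz1 : z₀ ≠ 1) (hzS : ∀ s ∈ S, s * z₀ = z₀ * s) (hc : Char2At z₀) :
    QIn S L X U Q O V R A n₀ m₀ z₀ w₀ where
  aL := l.aL
  aX := x.aX
  sL := l.sL
  sX := x.sX
  US := l.US
  SL := l.SL
  LX g hg hU := LX l x (L_NR l x hg) hU
  LV := l.LV
  XL g hg hU := mem_norm_iff.1 (l.NL (x.XR g (x.XV hg) hU))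
  RV := x.RV
  VU := x.VU
  XV := x.XV
  OV := x.OV
  CO := x.CO
  LR := l.LR
  comm := l.comm
  sq := l.sq
  irr := l.irr
  QQ := x.QQ
  RQ := x.RQ
  VR := x.VR
  cE := x.cE
  opp := l.opp
  cD := l.cD
  ruling := l.ruling
  AL := l.AL
  AU := l.AU
  Aodd := l.Aodd
  Aab := l.Aab
  AB := l.AB
  wQ := l.wQ
  cyc := l.cyc
  cent := l.cent
  z₀R := hz
  z₀1 := hz1
  z₀S := hzS
  c2 := hc
  tr := x.tr z₀ hz hz1
  fixR := x.fixR
  pair := x.pair

/-- **`⟨L, X⟩` has a split `BN`-pair of rank two.** -/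
theorem exists_split [Finite G] {z₀ : G} (hz : z₀ ∈ R) (hz1 : z₀ ≠ 1) (hzS : ∀ s ∈ S, s * z₀ = z₀ * s)
    (hc : Char2At z₀) (hB : Bender.{u}) : ∃ P : Cfsg.BNPair ↥(L ⊔ X), P.rank = 2 ∧ P.IsSplit :=
  (qin l x hz hz1 hzS hc).exists_split hB

/-- the Frattini argument: `U` a Sylow `2`-subgroup of `Y`, `g ∈ N(Y)` -/
theorem frattini [Finite G] {Y : Subgroup G} (hU : U ≤ Y) (h2 : IsPGroup 2 U)
    (hs : ∀ P ≤ Y, IsPGroup 2 P → U ≤ P → P ≤ U) {g : G} (hg : cj g Y = Y) :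
    ∃ y ∈ Y, cj (y * g) U = U := by
  have : Fact (Nat.Prime 2) := ⟨Nat.prime_two⟩
  let P : Sylow 2 Y :=
    { U.subgroupOf Y with
      isPGroup' := h2.comap_subtype
      is_maximal' := by
        intro T hT hle
        refine le_antisymm (fun t ht => ?_) hle
        have h3 := hs (T.map Y.subtype) (by
            rintro _ ⟨y, -, rfl⟩
            exact y.2) (hT.map _) (by
            intro u hu
            exact ⟨⟨u, hU hu⟩, hle (mem_subgroupOf.2 hu), rfl⟩)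
        exact mem_subgroupOf.2 (h3 ⟨t, ht, rfl⟩) }
  have hP : (P : Subgroup Y) = U.subgroupOf Y := rfl
  have hgU : cj g U ≤ Y := by rw [← hg]; exact cj_mono hU
  obtain ⟨P', hP'⟩ : ∃ P' : Sylow 2 Y, (cj g U).subgroupOf Y ≤ P' :=
    (IsPGroup.comap_subtype (h2.map _)).exists_le_sylow
  obtain ⟨y, hy⟩ := MulAction.exists_smul_eq Y P' P
  refine ⟨y, y.2, ?_⟩
  have h3 : cj (y * g) U ≤ U := by
    intro z hz
    rw [cj_mul] at hz
    have h4 : (y : G)⁻¹ * z * y ∈ cj g U := mem_cj.1 hz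
    have h5 : (⟨(y : G)⁻¹ * z * y, hgU h4⟩ : Y) ∈ P' := hP' (mem_subgroupOf.2 h4)
    have h6 : y * ⟨(y : G)⁻¹ * z * y, hgU h4⟩ * y⁻¹ ∈ P := by
      rw [← hy]
      exact Subgroup.smul_mem_pointwise_smul _ (MulAut.conj y) (P' : Subgroup Y) h5
    have h7 : (y * ⟨(y : G)⁻¹ * z * y, hgU h4⟩ * y⁻¹ : Y) ∈ U.subgroupOf Y := h6
    have h8 := mem_subgroupOf.1 h7
    have e : ((y * ⟨(y : G)⁻¹ * z * y, hgU h4⟩ * y⁻¹ : Y) : G) = z := by
      show (y : G) * ((y : G)⁻¹ * z * y) * (y : G)⁻¹ = z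
      group
    rwa [e] at h8
  exact Subgroup.eq_of_le_of_card_ge h3 (by rw [card_cj])

/-- **`N(R)` normalises `⟨L, X⟩`.** -/
theorem NR_le [Finite G] : normalizer (R : Set G) ≤ normalizer ((L ⊔ X : Subgroup G) : Set G) := by
  intro g hg
  obtain ⟨y, hy, hyU⟩ := frattini l x l.aL.UL l.aL.two l.sL (mem_norm_iff.1 (l.NL hg))
  have h1 : y * g ∈ normalizer (R : Set G) := mul_mem (L_NR l x hy) hg
  have h2 : y * g ∈ normalizer ((L ⊔ X : Subgroup G) : Set G) := by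
    rw [mem_norm_iff, cj_sup, mem_norm_iff.1 (l.NL h1), LX l x h1 hyU]
  have h3 : g = y⁻¹ * (y * g) := by group
  rw [h3]
  exact mul_mem (inv_mem (le_normalizer (mem_sup_left hy))) h2

/-- **`N(V)` normalises `⟨L, X⟩`.** -/
theorem NV_le [Finite G] : normalizer (V : Set G) ≤ normalizer ((L ⊔ X : Subgroup G) : Set G) := by
  intro g hg
  obtain ⟨y, hy, hyU⟩ := frattini l x x.aX.UL x.aX.two x.sX (mem_norm_iff.1 (x.NX hg))
  have h1 : y * g ∈ normalizer (V : Set G) := mul_mem (x.XV hy) hg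
  have h2 : y * g ∈ normalizer ((L ⊔ X : Subgroup G) : Set G) := by
    rw [mem_norm_iff, cj_sup, mem_norm_iff.1 (l.NL (x.XR _ h1 hyU)), mem_norm_iff.1 (x.NX h1)]
  have h3 : g = y⁻¹ * (y * g) := by group
  rw [h3]
  exact mul_mem (inv_mem (le_normalizer (mem_sup_right hy))) h2

end sides

end Cfsg.Agent.RankTwoClose.UFive.Glue

end

end

-- merged: Cfsg.Agent.Mrg.RankTwoClose.UFive.Known
section

/-!
# `U₅(q)`: the end of type beta, `dim_F Φ = 1`

* `char2At` : in a group of characteristic 2 type, `O₂(C(z))` contains its centraliser for a 2-central `z`;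
* `known_of_sides` : `LSide`, `XFields` and `G = ⟨N(R), N(V)⟩` ⟹ `G` is known;
* `known_of_out` : from `GIn`, `Fld`, `Ext`, `Out`, `dim_F Φ = 1`.
-/

set_option autoImplicit false
set_option linter.unusedSectionVars false

open Subgroup

universe u

namespace Cfsg.Agent.RankTwoClose.UFive.Known

open Cfsg.Agent.ZN Cfsg.Agent.Omega.MinPar Cfsg.Agent.MinSimple.VModule
open Cfsg.Agent.Omega.RootLemma Cfsg.Agent.Omega.Exits Cfsg.Agent.Omega.Close.Base
open Cfsg.Agent.RankTwoClose.UFive.Glue Cfsg.Agent.RankTwoClose.UFive.LSide Cfsg.Agent.RankTwoClose.XSide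
open Cfsg.Agent.Omega.NOne.SU

variable {G : Type u} [Group G]

/-- `O₂(C(z))` contains its centraliser -/
theorem char2At [Finite G] (S : Sylow 2 G) (hG : IsCharacteristicTwoType G) {z : G} (h2 : z * z = 1)
    (h1 : z ≠ 1) (hS : ∀ s ∈ S, s * z = z * s) : Char2At z := by
  have hSL : (S : Subgroup G) ≤ centralizer ({z} : Set G) := by
    intro s hs
    rw [mem_centralizer_singleton_iff]
    exact hS s hs
  have hloc := isLoc_centralizer S (by rw [pow_two]; exact h2) h1 hSL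
  refine ⟨o2 (centralizer ({z} : Set G)), ?_, o2_isPGroup _, ?_, ?_⟩
  · intro x hx
    exact mem_centralizer_singleton_iff.1 (o2_le _ hx)
  · intro d hd x hx
    exact (mem_normalizer_iff.1 (le_normalizer_o2 _ (mem_centralizer_singleton_iff.2 hd)) x).1 hx
  · intro d hd h
    refine hloc.char2 S hG (mem_inf.2 ⟨mem_centralizer_singleton_iff.2 hd, ?_⟩)
    rw [mem_centralizer_iff]
    intro x hx
    exact (h x hx).symm

/-- a nontrivial normal subgroup of `S` contains a central element of order `2` -/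
theorem exists_central [Finite G] (S : Sylow 2 G) {R : Subgroup G} (hR : R ≤ S)
    (hS : (S : Subgroup G) ≤ normalizer (R : Set G)) (h1 : R ≠ ⊥) :
    ∃ z ∈ R, z ≠ 1 ∧ z * z = 1 ∧ ∀ s ∈ S, s * z = z * s := by
  have : Fact (Nat.Prime 2) := ⟨Nat.prime_two⟩
  have hn : (R.subgroupOf (S : Subgroup G)).Normal := normal_subgroupOf_iff_le_normalizer hR |>.2 hS
  have h2 : R.subgroupOf (S : Subgroup G) ≠ ⊥ := by
    rw [Ne, subgroupOf_eq_bot, disjoint_iff, inf_of_le_left hR]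
    exact h1
  obtain ⟨z, hz, hzc, ho⟩ := Transfer.PGroupNormal.exists_mem_inf_center_orderOf S.isPGroup' _ h2
  refine ⟨z, mem_subgroupOf.1 hz, ?_, ?_, ?_⟩
  · rintro h0
    rw [OneMemClass.coe_eq_one] at h0
    rw [h0, orderOf_one] at ho
    exact absurd ho (by norm_num)
  · have h3 := pow_orderOf_eq_one z
    rw [ho, pow_two] at h3
    exact congrArg Subtype.val h3
  · intro s hs
    exact congrArg Subtype.val (mem_center_iff.1 hzc ⟨s, hs⟩)

/-- **The end.** -/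
theorem known_of_sides [Finite G] {S : Sylow 2 G} {L X U Q O V R A : Subgroup G} {n₀ m₀ w₀ : G}
    (h44 : St1144.{u}) (hB : Bender.{u}) (hs : IsSimpleGroup G) (hna : ¬ IsMulCommutative G)
    (hG : IsCharacteristicTwoType G) (l : LSide S L U Q V R A n₀ w₀) (x : XFields X U Q O V R m₀)
    (hSR : (S : Subgroup G) ≤ normalizer (R : Set G))
    (hT : normalizer (R : Set G) ⊔ normalizer (V : Set G) = ⊤) : IsKnownSimple' G := by
  obtain ⟨a, ha, -, -, ha1, -, -⟩ := x.pair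
  obtain ⟨z, hz, hz1, hz2, hzS⟩ := exists_central S ((x.RV.trans x.VU).trans l.US) hSR
    (by rintro h; rw [h, mem_bot] at ha; exact ha1 ha)
  obtain ⟨P, hr, hsp⟩ := exists_split l x hz hz1 hzS (char2At S hG hz2 hz1 hzS) hB
  have hbn : BN2 ↥(L ⊔ X) := ⟨P, by omega, hsp⟩
  have hN : ((L ⊔ X : Subgroup G)).Normal := by
    rw [← normalizer_eq_top_iff, eq_top_iff, ← hT]
    exact sup_le (NR_le l x) (NV_le l x)
  have htop : L ⊔ X = ⊤ := hN.eq_bot_or_eq_top.resolve_left hbn.ne_bot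
  exact known_of_eq_top hna htop fun _ _ => hbn.known h44

/-- **Type beta, `dim_F Φ = 1`: `G` is known.** -/
theorem known_of_out [Finite G] {k F : Type*} [Field k] [Field F] [Algebra k F] {T : Quad k F}
    {S : Sylow 2 G} {V R Q Q' : Subgroup G} {v : k → F → k → G} {p p' : G → F}
    {Φ : Type*} [AddCommGroup Φ] [Module F Φ] {φ χ : G → Φ} {hm : Φ → Φ → F}
    {W : Type*} [AddCommGroup W] [Module F W] {w : G → W} {g : W → W → F} {f₀ : W} {ι : Φ →ₗ[F] W}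
    (h44 : St1144.{u}) (hB : Bender.{u}) (hs : IsSimpleGroup G) (hna : ¬ IsMulCommutative G)
    (hG : IsCharacteristicTwoType G)
    (I : GIn T S V R Q Q' v p p') (D : Fld T V R Q Q' v p φ χ) (Ex : Ext V R Q Q' p')
    (O : Out T V R Q Q' v p φ χ hm w g f₀ ι) (h1 : Module.finrank F Φ = 1)
    (hT : normalizer (R : Set G) ⊔ normalizer (V : Set G) = ⊤) : IsKnownSimple' G := by
  obtain ⟨A, n₀, w₀, l⟩ := exists_LSide O I D h1
  obtain ⟨m₀, x⟩ := exists_XFields I D Ex O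
  exact known_of_sides h44 hB hs hna hG l x I.S_R hT

end Cfsg.Agent.RankTwoClose.UFive.Known

end
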